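import Cfsg.Agent.Lib.AffineDerange.Setting

/-!
The cases of a group of class two with fixed point free commutator subgroup of prime order and of
a two-group with a cyclic subgroup of index two.
-/

set_option autoImplicit false

namespace Cfsg.Agent.AffineDerange

open DerangeIndex

variable {H V : Type*} [Group H] [Finite H] [AddCommGroup V] [Finite V] [DistribMulAction H V]
  {K : Subgroup H} [K.Normal]

omit [Finite H] [Finite V] in
theorem z_fpf {r : ℕ} [Fact r.Prime] {z : H} (hz : z ^ r = 1)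
    (hfree : ∀ v : V, z • v = v → v = 0) (i : ℕ) (hi : z ^ i ≠ 1) (v : V)
    (hv : z ^ i • v = v) : v = 0 := by
  apply hfree
  have hndvd : ¬ r ∣ i := fun ⟨c, hc⟩ => hi (by rw [hc, pow_mul, hz, one_pow])
  obtain ⟨j, hj⟩ := Nat.exists_mul_mod_eq_one_of_coprime
    (Nat.Coprime.symm ((Fact.out : r.Prime).coprime_iff_not_dvd.mpr hndvd))
    (Fact.out : r.Prime).one_lt
  have h1 : (z ^ i) ^ j • v = v := by
    clear hj
    induction j with
    | zero => rw [pow_zero, one_smul]
    | succ j ih => rw [pow_succ, mul_smul, hv, ih]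
  rw [← pow_mul, ← Nat.div_add_mod (i * j) r, hj.2, pow_add, pow_mul, hz, one_pow, one_mul,
    pow_one] at h1
  exact h1

omit [Finite H] [Finite V] in
theorem fix_zpowers (g : H) (v : V) :
    v ∈ Fix (Subgroup.zpowers g : Set H) ↔ g • v = v :=
  ⟨fun h => h g (Subgroup.mem_zpowers g), fun h y hy =>
    (Subgroup.zpowers_le (H := MulAction.stabilizer H v)).mpr h hy⟩

theorem fix_zpowers_conj (a g : H) :
    (Fix (V := V) (Subgroup.zpowers (g * a * g⁻¹) : Set H)).ncard
      = (Fix (V := V) (Subgroup.zpowers a : Set H)).ncard := by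
  rw [← Set.ncard_image_of_injective (Fix (V := V) (Subgroup.zpowers a : Set H))
    (MulAction.injective g)]
  congr 1
  ext v
  rw [fix_zpowers]
  constructor
  · intro h
    refine ⟨g⁻¹ • v, (fix_zpowers _ _).mpr ?_, smul_inv_smul g v⟩
    rw [mul_smul, mul_smul] at h
    rw [eq_inv_smul_iff, h]
  · rintro ⟨w, hw, rfl⟩
    rw [mul_smul, mul_smul, inv_smul_smul, (fix_zpowers _ _).mp hw]

theorem fix_shift (x u z : H) (hzu : z * u = u * z) (hu : u * x * u⁻¹ = x * z) (k : ℕ) :
    (Fix (V := V) (Subgroup.zpowers (x * z ^ k) : Set H)).ncard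
      = (Fix (V := V) (Subgroup.zpowers x : Set H)).ncard := by
  induction k with
  | zero => rw [pow_zero, mul_one]
  | succ k ih =>
    have hc : u * (x * z ^ k) * u⁻¹ = x * z ^ (k + 1) := by
      have h1 : z ^ k * u⁻¹ = u⁻¹ * z ^ k := ((show Commute z u from hzu).pow_left k).inv_right.eq
      calc u * (x * z ^ k) * u⁻¹ = u * x * (z ^ k * u⁻¹) := by group
        _ = u * x * u⁻¹ * z ^ k := by rw [h1]; group
        _ = x * z ^ (k + 1) := by rw [hu, pow_succ']; group
    rw [← ih, ← hc, fix_zpowers_conj]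

theorem shift_pow_le {r : ℕ} [Fact r.Prime] (hcop : ∀ v : V, r • v = 0 → v = 0) (x u z : H)
    (hzu : z * u = u * z) (hzx : z * x = x * z) (hu : u * x * u⁻¹ = x * z) (hz : orderOf z = r)
    (hx : x ^ r = 1) (hfree : ∀ v : V, z • v = v → v = 0) :
    (Fix (V := V) (Subgroup.zpowers x : Set H)).ncard ^ r ≤ Nat.card V := by
  have hzr : z ^ r = 1 := hz ▸ pow_orderOf_eq_one z
  have hcx : Commute z x := hzx
  have := pow_card_le (fun k : Fin r => Subgroup.zpowers (x * z ^ (k : ℕ)))
    ((Fix (V := V) (Subgroup.zpowers x : Set H)).ncard) ?_ ?_ ?_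
    (fun k => (fix_shift x u z hzu hu k).ge)
  · simpa using this
  · rintro i j _ ⟨m, rfl⟩ _ ⟨n, rfl⟩
    have h0 : Commute (x * z ^ (i : ℕ)) (x * z ^ (j : ℕ)) :=
      ((Commute.refl x).mul_right ((hcx.symm).pow_right _)).mul_left
        ((hcx.pow_left _).mul_right ((Commute.refl z).pow_pow _ _))
    exact (h0.zpow_zpow m n).eq
  · intro i j hij v hi hj
    rw [fix_zpowers] at hi hj
    have h1 : z ^ (i : ℕ) • v = z ^ (j : ℕ) • v := by
      have h := hi.trans hj.symm
      rw [mul_smul, mul_smul] at h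
      exact MulAction.injective x h
    have key : ∀ a b : Fin r, (a : ℕ) < b → z ^ (a : ℕ) • v = z ^ (b : ℕ) • v → v = 0 := by
      intro a b hab h
      refine z_fpf hzr hfree ((b : ℕ) - a) ?_ v ?_
      · intro he
        have := Nat.le_of_dvd (by omega) (hz ▸ orderOf_dvd_of_pow_eq_one he)
        have := b.2
        omega
      · apply MulAction.injective (z ^ (a : ℕ))
        show z ^ (a : ℕ) • z ^ ((b : ℕ) - a) • v = z ^ (a : ℕ) • v
        rw [← mul_smul, ← pow_add, Nat.add_sub_cancel' hab.le, h]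
    rcases lt_trichotomy (i : ℕ) j with h | h | h
    · exact key i j h h1
    · exact absurd (Fin.ext h) hij
    · exact key j i h h1.symm
  · intro k v hv
    refine cop_of_exponent hcop _ ?_ v hv
    rintro _ ⟨m, rfl⟩
    show ((x * z ^ (k : ℕ)) ^ m) ^ r = 1
    rw [← zpow_natCast, zpow_comm, zpow_natCast, (hcx.symm.pow_right _).mul_pow, hx,
      ← pow_mul, mul_comm, pow_mul, hzr, one_pow, one_mul, one_zpow]

theorem eq_of_sq_cyclic (C : Subgroup H) [IsCyclic C] (y z : H) (hy : y ∈ C) (hz : z ∈ C)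
    (hy2 : y * y = 1) (hz2 : z * z = 1) (hy1 : y ≠ 1) (hz1 : z ≠ 1) : y = z := by
  classical
  haveI : Fintype C := Fintype.ofFinite C
  by_contra hne
  have h := IsCyclic.card_pow_eq_one_le (α := C) (n := 2) (by norm_num)
  have h3 : ({1, ⟨y, hy⟩, ⟨z, hz⟩} : Finset C).card = 3 := by
    rw [Finset.card_eq_three]
    exact ⟨1, ⟨y, hy⟩, ⟨z, hz⟩, fun h => hy1 (congrArg Subtype.val h).symm,
      fun h => hz1 (congrArg Subtype.val h).symm, fun h => hne (congrArg Subtype.val h), rfl⟩
  have hsub : ({1, ⟨y, hy⟩, ⟨z, hz⟩} : Finset C) ⊆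
      (Finset.univ.filter fun a : C => a ^ 2 = 1) := by
    intro a ha
    simp only [Finset.mem_insert, Finset.mem_singleton] at ha
    simp only [Finset.mem_filter, Finset.mem_univ, true_and, pow_two]
    rcases ha with rfl | rfl | rfl
    · simp
    · exact Subtype.ext hy2
    · exact Subtype.ext hz2
  have := Finset.card_le_card hsub
  omega

theorem Setting.false_of_cyclicTwo (s : Setting K V) (hcop : ∀ v : V, 2 • v = 0 → v = 0)
    (M R C : Subgroup H) [IsCyclic C] (hM : Cover K M) (hR : R ≤ M ⊓ K) (hCR : C ≤ R)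
    (hidx : Nat.card R = 2 * Nat.card C) (hMR : ∀ m ∈ M, ∀ a ∈ R, m * a * m⁻¹ ∈ R)
    (hC2 : IsPGroup 2 C)
    (z : H) (hzC : z ∈ C) (hz : orderOf z = 2) (hzM : ∀ a ∈ R, z * a = a * z)
    (hzinv : ∀ m ∈ M, m * z * m⁻¹ = z)
    (hfree : ∀ v : V, z • v = v → v = 0) (x : H) (hxR : x ∈ R) (hx : x * x = 1) (hxC : x ∉ C)
    (hnab : ∃ c ∈ C, c * x ≠ x * c) (v : V) (hv : v ≠ 0) (hxv : x • v = v) : False := by
  classical
  haveI : Fact (Nat.Prime 2) := ⟨Nat.prime_two⟩
  haveI : Fintype H := Fintype.ofFinite H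
  have hzz : z * z = 1 := by rw [← pow_two, ← hz, pow_orderOf_eq_one]
  have hz1 : z ≠ 1 := fun h => by rw [h, orderOf_one] at hz; omega
  have hinC : ∀ y ∈ C, y ≠ 1 → ∀ w : V, y • w = w → w = 0 := by
    intro y hy hy1 w hw
    refine hfree w ?_
    obtain ⟨k, hk⟩ := (IsPGroup.iff_orderOf.mp hC2) ⟨y, hy⟩
    rw [Subgroup.orderOf_mk] at hk
    obtain ⟨j, rfl⟩ : ∃ j, k = j + 1 := Nat.exists_eq_add_one.mpr (Nat.pos_of_ne_zero fun h => by
      rw [h, pow_zero, orderOf_eq_one_iff] at hk; exact hy1 hk)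
    have hyz : y ^ 2 ^ j = z := by
      refine eq_of_sq_cyclic C _ z (C.pow_mem hy _) hzC ?_ hzz ?_ hz1
      · rw [← pow_add, ← two_mul, ← pow_succ', ← hk, pow_orderOf_eq_one]
      · intro h
        have := Nat.le_of_dvd (by positivity) (hk ▸ orderOf_dvd_of_pow_eq_one h)
        rw [pow_succ] at this
        have := Nat.two_pow_pos j
        omega
    rw [← hyz]
    exact (MulAction.stabilizer H w).pow_mem hw _
  -- an element moving `x` to `x * z`
  obtain ⟨c, hc, hcx⟩ := hnab
  have hnormC : ∀ a ∈ R, ∀ y ∈ C, a * y * a⁻¹ ∈ C := by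
    have h2 : (C.subgroupOf R).index = 2 := by
      have := (C.subgroupOf R).card_mul_index
      rw [Nat.card_congr (Subgroup.subgroupOfEquivOfLe hCR).toEquiv, hidx, mul_comm 2] at this
      exact Nat.eq_of_mul_eq_mul_left Nat.card_pos this
    haveI := Subgroup.normal_of_index_eq_two h2
    intro a ha y hy
    exact (this.conj_mem ⟨y, hCR hy⟩ hy ⟨a, ha⟩ :)
  set w := c * x * c⁻¹ * x with hw
  have hxi : x⁻¹ = x := inv_eq_of_mul_eq_one_right hx
  have hwC : w ∈ C := by
    have : c * (x * c⁻¹ * x⁻¹) ∈ C := C.mul_mem hc (hnormC x hxR _ (C.inv_mem hc))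
    rw [hxi] at this
    simpa [hw, mul_assoc] using this
  have hw1 : w ≠ 1 := by
    intro h
    apply hcx
    rw [hw, mul_eq_one_iff_eq_inv, hxi, mul_inv_eq_iff_eq_mul] at h
    exact h
  have hcomm : ∀ y ∈ C, y * w = w * y := fun y hy => congrArg Subtype.val
    (IsCyclic.commGroup.mul_comm (⟨y, hy⟩ : C) ⟨w, hwC⟩)
  have hpowc : ∀ k : ℕ, c ^ k * x * (c ^ k)⁻¹ = w ^ k * x := by
    intro k
    induction k with
    | zero => simp
    | succ k ih =>
      have h1 : c * x * c⁻¹ = w * x := by rw [hw, mul_assoc _ x x, hx, mul_one]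
      calc c ^ (k + 1) * x * (c ^ (k + 1))⁻¹ = c * (c ^ k * x * (c ^ k)⁻¹) * c⁻¹ := by group
        _ = c * w ^ k * x * c⁻¹ := by rw [ih]; group
        _ = w ^ k * (c * x * c⁻¹) := by
          rw [((show Commute c w from hcomm c hc).pow_right k).eq]; group
        _ = w ^ (k + 1) * x := by rw [h1, pow_succ]; group
  obtain ⟨k, hk⟩ : ∃ k : ℕ, w ^ k = z := by
    obtain ⟨e, he⟩ := (IsPGroup.iff_orderOf.mp hC2) ⟨w, hwC⟩
    rw [Subgroup.orderOf_mk] at he
    obtain ⟨j, rfl⟩ : ∃ j, e = j + 1 := Nat.exists_eq_add_one.mpr (Nat.pos_of_ne_zero fun h => by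
      rw [h, pow_zero, orderOf_eq_one_iff] at he; exact hw1 he)
    refine ⟨2 ^ j, eq_of_sq_cyclic C _ z (C.pow_mem hwC _) hzC ?_ hzz ?_ hz1⟩
    · rw [← pow_add, ← two_mul, ← pow_succ', ← he, pow_orderOf_eq_one]
    · intro h
      have := Nat.le_of_dvd (by positivity) (he ▸ orderOf_dvd_of_pow_eq_one h)
      rw [pow_succ] at this
      have := Nat.two_pow_pos j
      omega
  set u := c ^ k
  have huR : u ∈ R := R.pow_mem (hCR hc) _
  have hu : u * x * u⁻¹ = x * z := by rw [hpowc k, hk, hzM x hxR]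
  have hsq := shift_pow_le hcop x u z (hzM u huR) (hzM x hxR) hu hz (by rw [pow_two, hx]) hfree
  set q := (Fix (V := V) (Subgroup.zpowers x : Set H)).ncard
  let I : Finset H := (Finset.univ.filter (fun m => m ∈ M)).image fun m => m * x * m⁻¹
  have hI : I ⊆ Finset.univ.filter (fun y => y ∈ R ∧ y ∉ C) := by
    intro y hy
    simp only [I, Finset.mem_image, Finset.mem_filter, Finset.mem_univ, true_and] at hy
    obtain ⟨m, hm, rfl⟩ := hy
    simp only [Finset.mem_filter, Finset.mem_univ, true_and]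
    refine ⟨hMR m hm x hxR, fun hC => ?_⟩
    have hy1 : m * x * m⁻¹ ≠ 1 := fun h => hxC (by
      have : x = 1 := by simpa using h
      rw [this]; exact C.one_mem)
    have hyy : m * x * m⁻¹ * (m * x * m⁻¹) = 1 := by
      rw [show m * x * m⁻¹ * (m * x * m⁻¹) = m * (x * x) * m⁻¹ by group, hx]; group
    have he := eq_of_sq_cyclic C _ z hC hzC hyy hzz hy1 hz1
    rw [← hzinv m hm] at he
    have : x = z := mul_left_cancel (mul_right_cancel he)
    exact hxC (this ▸ hzC)
  have hIcard : I.card ≤ Nat.card C := by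
    refine le_trans (Finset.card_le_card hI) (le_of_eq ?_)
    have h1 : (Finset.univ.filter (fun y => y ∈ C)) ∪ (Finset.univ.filter (fun y => y ∈ R ∧ y ∉ C))
        = Finset.univ.filter (fun y => y ∈ R) := by
      ext y; simp only [Finset.mem_union, Finset.mem_filter, Finset.mem_univ, true_and]
      constructor
      · rintro (h | h)
        · exact hCR h
        · exact h.1
      · tauto
    have h2 := congrArg Finset.card h1
    rw [Finset.card_union_of_disjoint (by
      rw [Finset.disjoint_left]; intro y hy hy'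
      simp only [Finset.mem_filter, Finset.mem_univ, true_and] at hy hy'
      exact hy'.2 hy)] at h2
    rw [Nat.card_eq_fintype_card, Fintype.card_subtype] at hidx ⊢
    rw [Nat.card_eq_fintype_card, Fintype.card_subtype] at hidx
    omega
  have horb := s.orbit_le M hM I (fun y => (Subgroup.zpowers y : Set H)) q (by
    intro y hy
    simp only [I, Finset.mem_image, Finset.mem_filter, Finset.mem_univ, true_and] at hy
    obtain ⟨m, hm, rfl⟩ := hy
    exact le_of_eq (fix_zpowers_conj x m)) v hv (by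
    intro m hm
    refine ⟨m * x * m⁻¹, ?_, (fix_zpowers _ _).mpr ?_⟩
    · simp only [I, Finset.mem_image, Finset.mem_filter, Finset.mem_univ, true_and]
      exact ⟨m, hm, rfl⟩
    · rw [mul_smul, mul_smul, inv_smul_smul, hxv])
  have hlow : Nat.card C ≤ Nat.card (MulAction.orbit ↥(M ⊓ K) v) := by
    refine Nat.card_le_card_of_injective
      (fun y : C => (⟨(y : H) • v, ⟨⟨y, hR (hCR y.2)⟩, rfl⟩⟩ : MulAction.orbit ↥(M ⊓ K) v)) ?_
    intro y y' h
    have h' : (y : H) • v = (y' : H) • v := congrArg Subtype.val h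
    by_contra hne
    refine hv (hinC ((y' : H)⁻¹ * y) (C.mul_mem (C.inv_mem y'.2) y.2) ?_ v ?_)
    · intro he; exact hne (Subtype.ext (inv_mul_eq_one.mp he).symm)
    · rw [mul_smul, h', inv_smul_smul]
  have hfin : K.index * Nat.card C ≤ (q - 1) * Nat.card C :=
    le_trans (Nat.mul_le_mul_left _ hlow) (horb.trans (by rw [mul_comm]; exact Nat.mul_le_mul_left _ hIcard))
  have hle := Nat.le_of_mul_le_mul_right hfin Nat.card_pos
  have hq1 : 1 ≤ q := (Set.ncard_pos (Set.toFinite _)).mpr ⟨0, fun y _ => smul_zero y⟩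
  have h5 := s.big
  have h6 := Nat.pow_le_pow_left (show K.index + 1 ≤ q by omega) 2
  omega

end Cfsg.Agent.AffineDerange
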