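import Cfsg.Agent.Lib.AffineDerange.Class

/-!
A covering subgroup normalising a group of class two with fixed point free commutator subgroup of
prime order bounds the index of `K` by the square root of the number of vectors.
-/

set_option autoImplicit false

namespace Cfsg.Agent.AffineDerange

open DerangeIndex

variable {H V : Type*} [Group H] [Finite H] [AddCommGroup V] [Finite V] [DistribMulAction H V]
  {K : Subgroup H} [K.Normal]

/-- A group of class two, invariant under the covering subgroup `M`, with an element `x` of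
order `r` fixing the vector `v`. -/
structure TwoStep (K : Subgroup H) (r : ℕ) (M U : Subgroup H) (z x u : H) (v : V) : Prop where
  cover : Cover K M
  le : U ≤ M ⊓ K
  norm : ∀ m ∈ M, ∀ a ∈ U, m * a * m⁻¹ ∈ U
  zmem : z ∈ U
  order : orderOf z = r
  central : ∀ a ∈ U, z * a = a * z
  free : ∀ w : V, z • w = w → w = 0
  comm : ∀ a ∈ U, ∀ b ∈ U, ∃ i : ℕ, a * b * a⁻¹ = b * z ^ i
  cen : ∀ w ∈ U, (∀ a ∈ U, w * a = a * w) → w ^ r = 1 → ∃ i : ℕ, w = z ^ i
  xmem : x ∈ U
  umem : u ∈ U
  conj : u * x * u⁻¹ = x * z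
  xpow : x ^ r = 1
  vne : v ≠ 0
  fixed : x • v = v

variable {r : ℕ} [Fact r.Prime] {M U : Subgroup H} {z x u : H} {v : V}

theorem TwoStep.zpow_one (t : TwoStep K r M U z x u v) : z ^ r = 1 :=
  t.order ▸ pow_orderOf_eq_one z

theorem TwoStep.sep_card (t : TwoStep K r M U z x u v) (p : ℕ) [Fact p.Prime]
    [Module (ZMod p) V] (S : Finset U)
    (hS : ∀ a ∈ S, ∀ b ∈ S, a ≠ b → a⁻¹ * b ∉ Subgroup.center U) :
    S.card ≤ Module.finrank (ZMod p) V * Module.finrank (ZMod p) V := by
  haveI : Nontrivial V := ⟨v, 0, t.vne⟩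
  refine card_le_sq p (⟨z, t.zmem⟩ : U) (fun h => Subtype.ext (t.central h h.2)) S ?_ ?_
  · intro a _ w
    obtain ⟨i, hi⟩ := t.comm w w.2 a a.2
    exact ⟨i, Subtype.ext (by simpa using hi)⟩
  · intro a ha b hb hab
    obtain ⟨w, hw⟩ : ∃ w : U, w * (a⁻¹ * b) ≠ (a⁻¹ * b) * w := by
      by_contra hc
      push_neg at hc
      exact hS a ha b hb hab (Subgroup.mem_center_iff.mpr hc)
    obtain ⟨i, hi⟩ := t.comm w w.2 a a.2
    obtain ⟨j, hj⟩ := t.comm w w.2 b b.2
    have hi' : w * a * w⁻¹ = a * (⟨z, t.zmem⟩ : U) ^ i := Subtype.ext (by simpa using hi)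
    have hj' : w * b * w⁻¹ = b * (⟨z, t.zmem⟩ : U) ^ j := Subtype.ext (by simpa using hj)
    refine ⟨w, i, j, hi', hj', fun y hy => ?_⟩
    have hy' : z ^ i • y = z ^ j • y := hy
    refine z_fpf t.zpow_one t.free (i + (r - 1) * j) ?_ y ?_
    · intro he
      apply hw
      have hr : (r - 1) * j + j = r * j := by
        rw [Nat.sub_mul, one_mul, Nat.sub_add_cancel
          (Nat.le_mul_of_pos_left _ (Fact.out : r.Prime).pos)]
      have hij : z ^ i = z ^ j := by
        have h1 : z ^ (i + (r - 1) * j) * z ^ j = z ^ j := by rw [he, one_mul]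
        rwa [← pow_add, add_assoc, hr, pow_add, pow_mul, t.zpow_one, one_pow, mul_one] at h1
      have hij' : (⟨z, t.zmem⟩ : U) ^ i = (⟨z, t.zmem⟩ : U) ^ j := Subtype.ext (by simpa using hij)
      have hc : Commute (⟨z, t.zmem⟩ : U) a := Subtype.ext (t.central a a.2)
      have h1 : w * (a⁻¹ * b) * w⁻¹ = a⁻¹ * b := by
        calc w * (a⁻¹ * b) * w⁻¹ = (w * a * w⁻¹)⁻¹ * (w * b * w⁻¹) := by group
          _ = _ := by
            rw [hi', hj', hij', mul_inv_rev]
            have h2 : Commute ((⟨z, t.zmem⟩ : U) ^ j) (a⁻¹ * b) :=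
              ((show Commute (⟨z, t.zmem⟩ : U) (a⁻¹ * b) from
                Subtype.ext (t.central _ (a⁻¹ * b).2)).pow_left j)
            rw [mul_assoc, ← mul_assoc a⁻¹, ← h2.eq, inv_mul_cancel_left]
      exact mul_inv_eq_iff_eq_mul.mp h1
    · rw [pow_add, mul_smul, ← mul_smul, ((Commute.refl z).pow_pow i ((r - 1) * j)).eq, mul_smul,
        hy', ← mul_smul, ← pow_add, Nat.sub_mul, one_mul, Nat.sub_add_cancel
          (Nat.le_mul_of_pos_left _ (Fact.out : r.Prime).pos), pow_mul, t.zpow_one, one_pow,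
        one_smul]

theorem TwoStep.stab_card (t : TwoStep K r M U z x u v) (p : ℕ) [Fact p.Prime]
    [Module (ZMod p) V] (hexp : ∀ a ∈ U, a • v = v → a ^ r = 1) :
    Nat.card ↥(U ⊓ MulAction.stabilizer H v)
      ≤ Module.finrank (ZMod p) V * Module.finrank (ZMod p) V := by
  classical
  haveI : Fintype U := Fintype.ofFinite U
  have h := t.sep_card p (Finset.univ.filter fun a : U => (a : H) • v = v) ?_
  · refine le_trans (le_of_eq ?_) h
    rw [← Fintype.card_subtype, ← Nat.card_eq_fintype_card]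
    exact Nat.card_congr
      { toFun := fun a => ⟨⟨a.1, a.2.1⟩, a.2.2⟩
        invFun := fun a => ⟨a.1.1, a.1.2, a.2⟩
        left_inv := fun _ => rfl
        right_inv := fun _ => rfl }
  · intro a ha b hb hab hc
    simp only [Finset.mem_filter, Finset.mem_univ, true_and] at ha hb
    have hfix : ((a⁻¹ * b : U) : H) • v = v := by
      rw [Subgroup.coe_mul, Subgroup.coe_inv, mul_smul, hb, inv_smul_eq_iff, ha]
    obtain ⟨i, hi⟩ := t.cen _ (a⁻¹ * b).2
      (fun c hc' => congrArg Subtype.val (Subgroup.mem_center_iff.mp hc ⟨c, hc'⟩).symm)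
      (hexp _ (a⁻¹ * b).2 hfix)
    refine hab (inv_mul_eq_one.mp (Subtype.ext ?_))
    show ((a⁻¹ * b : U) : H) = 1
    rw [hi] at hfix ⊢
    by_contra hne
    exact t.vne (z_fpf t.zpow_one t.free i hne v hfix)

theorem orbit_mono (hU : U ≤ M ⊓ K) :
    Nat.card (MulAction.orbit ↥U v) ≤ Nat.card (MulAction.orbit ↥(M ⊓ K) v) := by
  rw [Nat.card_coe_set_eq, Nat.card_coe_set_eq]
  refine Set.ncard_le_ncard ?_ (Set.toFinite _)
  rintro y ⟨a, rfl⟩
  exact ⟨⟨a, hU a.2⟩, rfl⟩

theorem TwoStep.false_odd (t : TwoStep K r M U z x u v) (s : Setting K V)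
    (hcop : ∀ w : V, r • w = 0 → w = 0) (hr : 3 ≤ r) (hexp : ∀ a ∈ U, a ^ r = 1)
    (p : ℕ) [Fact p.Prime] [Module (ZMod p) V]
    (hbig : 4096 * Module.finrank (ZMod p) V ^ 16 ≤ Nat.card V) : False := by
  classical
  haveI : Fintype H := Fintype.ofFinite H
  set q := (Fix (V := V) (Subgroup.zpowers x : Set H)).ncard
  set d := Module.finrank (ZMod p) V
  let I : Finset H := (Finset.univ.filter (fun m => m ∈ M)).image fun m => m * x * m⁻¹
  have hI : I.card ≤ Nat.card U := by
    rw [Nat.card_eq_fintype_card, Fintype.card_subtype]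
    refine Finset.card_le_card fun y hy => ?_
    simp only [I, Finset.mem_image, Finset.mem_filter, Finset.mem_univ, true_and] at hy ⊢
    obtain ⟨m, hm, rfl⟩ := hy
    exact t.norm m hm x t.xmem
  have horb := s.orbit_le M t.cover I (fun y => (Subgroup.zpowers y : Set H)) q (by
    intro y hy
    simp only [I, Finset.mem_image, Finset.mem_filter, Finset.mem_univ, true_and] at hy
    obtain ⟨m, hm, rfl⟩ := hy
    exact le_of_eq (fix_zpowers_conj x m)) v t.vne (by
    intro m hm
    refine ⟨m * x * m⁻¹, ?_, (fix_zpowers _ _).mpr ?_⟩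
    · simp only [I, Finset.mem_image, Finset.mem_filter, Finset.mem_univ, true_and]
      exact ⟨m, hm, rfl⟩
    · rw [mul_smul, mul_smul, inv_smul_smul, t.fixed])
  have hq : q ^ r ≤ Nat.card V := shift_pow_le hcop x u z (t.central u t.umem)
    (t.central x t.xmem) t.conj t.order t.xpow t.free
  have hst := t.stab_card p (fun a ha _ => hexp a ha)
  have hmul := card_orbit_mul U v
  have hlow := orbit_mono (v := v) t.le
  set o := Nat.card (MulAction.orbit ↥U v)
  set sc := Nat.card ↥(U ⊓ MulAction.stabilizer H v)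
  have hopos : 0 < o := by
    rcases Nat.eq_zero_or_pos o with h | h
    · rw [h, zero_mul] at hmul; have := Nat.card_pos (α := U); omega
    · exact h
  have hq1 : 1 ≤ q := (Set.ncard_pos (Set.toFinite _)).mpr ⟨0, fun y _ => smul_zero y⟩
  have h1 : K.index ≤ d * d * (q - 1) := by
    refine Nat.le_of_mul_le_mul_right ?_ hopos
    calc K.index * o ≤ I.card * (q - 1) := le_trans (Nat.mul_le_mul_left _ hlow) horb
      _ ≤ o * sc * (q - 1) := Nat.mul_le_mul_right _ (hmul ▸ hI)
      _ ≤ o * (d * d) * (q - 1) := Nat.mul_le_mul_right _ (Nat.mul_le_mul_left _ hst)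
      _ = _ := by ring
  have hd : 1 ≤ d * d := le_trans Nat.card_pos hst
  have h2 : K.index + 1 ≤ d * d * q := by
    have : d * d * q = d * d * (q - 1) + d * d := by
      rw [← Nat.mul_succ, Nat.succ_eq_add_one, Nat.sub_add_cancel hq1]
    omega
  have h3 : q ^ 3 ≤ Nat.card V := le_trans (Nat.pow_le_pow_right hq1 hr) hq
  have hdd : d ^ 12 ≤ Nat.card V := by
    have hd1 : 1 ≤ d := Nat.pos_of_ne_zero fun h => by rw [h] at hd; simp at hd
    calc d ^ 12 ≤ d ^ 16 := Nat.pow_le_pow_right hd1 (by norm_num)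
      _ ≤ 4096 * d ^ 16 := Nat.le_mul_of_pos_left _ (by norm_num)
      _ ≤ _ := hbig
  have h5 := lt_of_lt_of_le s.big (Nat.pow_le_pow_left h2 2)
  have h6 := Nat.pow_lt_pow_left h5 (n := 3) (by norm_num)
  have h7 : ((d * d * q) ^ 2) ^ 3 ≤ Nat.card V ^ 3 :=
    calc ((d * d * q) ^ 2) ^ 3 = d ^ 12 * (q ^ 3) ^ 2 := by ring
      _ ≤ Nat.card V * Nat.card V ^ 2 := Nat.mul_le_mul hdd (Nat.pow_le_pow_left h3 2)
      _ = _ := by ring
  omega

section Two

variable {M U : Subgroup H} {z x u : H} {v : V}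

theorem sq_cases (t : TwoStep K 2 M U z x u v) (hsq : ∀ a ∈ U, a * a = 1 ∨ a * a = z) (a : H)
    (ha : a ∈ U) (hfix : a • v = v) : a ^ 2 = 1 := by
  rw [pow_two]
  rcases hsq a ha with h | h
  · exact h
  · refine absurd (t.free v ?_) t.vne
    rw [← h, mul_smul, hfix, hfix]

theorem TwoStep.two_basic (t : TwoStep K 2 M U z x u v) : z ≠ 1 ∧ z * z = 1 ∧ x * x = 1 := by
  refine ⟨fun h => ?_, ?_, ?_⟩
  · have := t.order
    rw [h, orderOf_one] at this
    omega
  · rw [← pow_two, ← t.order, pow_orderOf_eq_one]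
  · rw [← pow_two, t.xpow]

theorem TwoStep.conj_cases (t : TwoStep K 2 M U z x u v) (a b : H) (ha : a ∈ U) (hb : b ∈ U) :
    a * b * a⁻¹ = b ∨ a * b * a⁻¹ = b * z := by
  obtain ⟨i, hi⟩ := t.comm a ha b hb
  obtain ⟨-, hzz, -⟩ := t.two_basic
  rw [hi, ← Nat.div_add_mod i 2, pow_add, pow_mul, pow_two, hzz, one_pow, one_mul]
  rcases Nat.mod_two_eq_zero_or_one i with h | h <;> rw [h] <;> simp

theorem TwoStep.card_U (t : TwoStep K 2 M U z x u v) (hsq : ∀ a ∈ U, a * a = 1 ∨ a * a = z)
    (p : ℕ) [Fact p.Prime] [Module (ZMod p) V] :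
    Nat.card U ≤ 4 * (Module.finrank (ZMod p) V * Module.finrank (ZMod p) V) := by
  classical
  haveI : Fintype U := Fintype.ofFinite U
  haveI : Fintype (U ⧸ Subgroup.center U) := Fintype.ofFinite _
  obtain ⟨hz1, hzz, -⟩ := t.two_basic
  have h1 := t.sep_card p (Finset.univ.image (Quotient.out : U ⧸ Subgroup.center U → U)) (by
    intro a ha b hb hab hc
    simp only [Finset.mem_image, Finset.mem_univ, true_and] at ha hb
    obtain ⟨c, rfl⟩ := ha
    obtain ⟨c', rfl⟩ := hb
    refine hab ?_
    have : c = c' := by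
      rw [← c.out_eq, ← c'.out_eq]
      exact QuotientGroup.eq.mpr hc
    rw [this])
  rw [Finset.card_image_of_injective _ Quotient.out_injective, Finset.card_univ,
    ← Nat.card_eq_fintype_card] at h1
  have h2 : Nat.card (Subgroup.center U) ≤ 4 := by
    rw [Nat.card_eq_fintype_card, Fintype.card_subtype]
    let f : U → U := fun a => a * a
    have himg : ((Finset.univ.filter fun a : U => a ∈ Subgroup.center U).image f).card ≤ 2 := by
      refine le_trans (Finset.card_le_card ?_)
        (Finset.card_le_two (a := (1 : U)) (b := ⟨z, t.zmem⟩))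
      intro a ha
      simp only [Finset.mem_image, f] at ha
      obtain ⟨b, -, rfl⟩ := ha
      rcases hsq b b.2 with h | h
      · exact Finset.mem_insert.mpr (Or.inl (Subtype.ext (by simpa using h)))
      · exact Finset.mem_insert.mpr (Or.inr (Finset.mem_singleton.mpr
          (Subtype.ext (by simpa using h))))
    refine le_trans (Finset.card_le_mul_card_image _ 2 (fun c hc => ?_))
      (by omega : 2 * ((Finset.univ.filter fun a : U => a ∈ Subgroup.center U).image f).card ≤ 4)
    rw [Finset.mem_image] at hc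
    obtain ⟨b, hb, rfl⟩ := hc
    simp only [Finset.mem_filter, Finset.mem_univ, true_and] at hb
    refine le_trans (Finset.card_le_card ?_)
      (Finset.card_le_two (a := b) (b := b * ⟨z, t.zmem⟩))
    intro a ha
    simp only [Finset.mem_filter, Finset.mem_univ, true_and, f] at ha
    obtain ⟨hac, hsqa⟩ := ha
    have hcom : a * b = b * a := (Subgroup.mem_center_iff.mp hb a)
    set w := b⁻¹ * a with hw
    have hwc : w ∈ Subgroup.center U := mul_mem (inv_mem hb) hac
    have hww : w * w = 1 := by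
      rw [hw, show b⁻¹ * a * (b⁻¹ * a) = b⁻¹ * (a * b⁻¹) * a by group,
        (show Commute a b from hcom).inv_right.eq,
        show b⁻¹ * (b⁻¹ * a) * a = (b * b)⁻¹ * (a * a) by group, hsqa, inv_mul_cancel]
    obtain ⟨i, hi⟩ := t.cen w w.2
      (fun c hc => congrArg Subtype.val (Subgroup.mem_center_iff.mp hwc ⟨c, hc⟩).symm)
      (by rw [pow_two]; exact congrArg Subtype.val hww)
    rw [← Nat.div_add_mod i 2, pow_add, pow_mul, pow_two, hzz, one_pow, one_mul] at hi
    rcases Nat.mod_two_eq_zero_or_one i with h | h <;> rw [h] at hi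
    · refine Finset.mem_insert.mpr (Or.inl ?_)
      rw [pow_zero] at hi
      exact (inv_mul_eq_one.mp (Subtype.ext hi)).symm
    · refine Finset.mem_insert.mpr (Or.inr (Finset.mem_singleton.mpr ?_))
      rw [pow_one] at hi
      exact inv_mul_eq_iff_eq_mul.mp (Subtype.ext hi)
  calc Nat.card U = Nat.card (U ⧸ Subgroup.center U) * Nat.card (Subgroup.center U) :=
        Subgroup.card_eq_card_quotient_mul_card_subgroup _
    _ ≤ (Module.finrank (ZMod p) V * Module.finrank (ZMod p) V) * 4 := Nat.mul_le_mul h1 h2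
    _ = _ := mul_comm _ _

theorem TwoStep.false_single (t : TwoStep K 2 M U z x u v) (s : Setting K V)
    (hcop : ∀ w : V, 2 • w = 0 → w = 0) (hsq : ∀ a ∈ U, a * a = 1 ∨ a * a = z)
    (hsingle : ∀ y ∈ U, y * y = 1 → x * y = y * x → y = 1 ∨ y = z ∨ y = x ∨ y = x * z) :
    False := by
  classical
  haveI : Fact (Nat.Prime 2) := ⟨Nat.prime_two⟩
  haveI : Fintype H := Fintype.ofFinite H
  obtain ⟨hz1, hzz, hxx⟩ := t.two_basic
  set q := (Fix (V := V) (Subgroup.zpowers x : Set H)).ncard
  have hxz : x * z = z * x := (t.central x t.xmem).symm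
  have hxne : x ≠ 1 := fun h => hz1 (by
    have := t.conj
    rw [h, mul_one, mul_inv_cancel, one_mul] at this
    exact this.symm)
  have hxnz : x ≠ z := fun h => hz1 (by
    have h' := t.conj
    rw [h, ← t.central u t.umem, mul_inv_cancel_right, hzz] at h'
    exact h')
  let L : Finset H := Finset.univ.filter fun y => y ∈ U ∧ x * y = y * x
  let L' : Finset H := Finset.univ.filter fun y => y ∈ U ∧ x * y ≠ y * x
  have hLL : L.card + L'.card = Nat.card U := by
    rw [Nat.card_eq_fintype_card, Fintype.card_subtype,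
      ← Finset.card_union_of_disjoint (by
        rw [Finset.disjoint_left]; intro y hy hy'
        simp only [L, L', Finset.mem_filter, Finset.mem_univ, true_and] at hy hy'
        exact hy'.2 hy.2)]
    congr 1
    ext y
    simp only [L, L', Finset.mem_union, Finset.mem_filter, Finset.mem_univ, true_and]
    tauto
  -- `u` swaps `L` and `L'`
  have hxu : ∀ y ∈ U, x * y ≠ y * x → y * x = x * y * z := by
    intro y hy hne
    rcases t.conj_cases y x hy t.xmem with h | h
    · exact absurd (mul_inv_eq_iff_eq_mul.mp h).symm hne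
    · rw [mul_inv_eq_iff_eq_mul] at h
      rw [h, mul_assoc, t.central y hy, mul_assoc]
  have hune : x * u ≠ u * x := by
    intro h
    apply hz1
    have h' := t.conj
    rw [← h, mul_inv_cancel_right] at h'
    exact (mul_left_cancel (h'.symm.trans (mul_one x).symm))
  have hLeq : L.card = L'.card := by
    refine Finset.card_bij (fun y _ => y * u) ?_ (fun _ _ _ _ h => mul_right_cancel h) ?_
    · intro y hy
      simp only [L, L', Finset.mem_filter, Finset.mem_univ, true_and] at hy ⊢
      refine ⟨U.mul_mem hy.1 t.umem, fun h => hune ?_⟩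
      rw [← mul_assoc, hy.2, mul_assoc, mul_assoc] at h
      exact mul_left_cancel h
    · intro y hy
      simp only [L, L', Finset.mem_filter, Finset.mem_univ, true_and] at hy ⊢
      refine ⟨y * u⁻¹, ⟨U.mul_mem hy.1 (U.inv_mem t.umem), ?_⟩, by group⟩
      have h1 := hxu y hy.1 hy.2
      have h2 := hxu u t.umem hune
      have h3 : u⁻¹ * x = x * u⁻¹ * z := by
        rw [inv_mul_eq_iff_eq_mul, ← mul_assoc, ← mul_assoc, h2,
          mul_assoc (x * u) z, t.central _ (U.inv_mem t.umem), ← mul_assoc, mul_inv_cancel_right,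
          mul_assoc, hzz, mul_one]
      calc x * (y * u⁻¹) = x * y * z * (z * u⁻¹) := by
            rw [mul_assoc (x * y), ← mul_assoc z z, hzz, one_mul, mul_assoc]
        _ = y * x * (u⁻¹ * z) := by rw [h1, t.central _ (U.inv_mem t.umem)]
        _ = y * u⁻¹ * x := by rw [mul_assoc y, ← mul_assoc x, ← h3, mul_assoc]
  let I : Finset H := (Finset.univ.filter (fun m => m ∈ M)).image fun m => m * x * m⁻¹
  let W : Finset H := L'.filter fun y => y * y = 1
  have hW : 2 * W.card ≤ L'.card := by
    have h1 : (W.image fun y => y * x) ⊆ L'.filter (fun y => ¬ y * y = 1) := by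
      intro y hy
      simp only [W, L', Finset.mem_image, Finset.mem_filter, Finset.mem_univ, true_and] at hy ⊢
      obtain ⟨b, ⟨⟨hbU, hb⟩, hbb⟩, rfl⟩ := hy
      refine ⟨⟨U.mul_mem hbU t.xmem, fun h => hb ?_⟩, fun h => hz1 ?_⟩
      · rw [← mul_assoc] at h
        exact mul_right_cancel h
      · have h1 := hxu b hbU hb
        have hzb := t.central b hbU
        calc z = x * (b * b) * x * z := by rw [hbb, mul_one, hxx, one_mul]
          _ = (x * b * z) * (b * x) := by
            rw [mul_assoc (x * b) z, ← mul_assoc z b x, hzb,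
              mul_assoc b z x, ← hxz]
            group
          _ = (b * x) * (b * x) := by rw [h1]
          _ = 1 := h
    have h2 := Finset.card_le_card h1
    rw [Finset.card_image_of_injective _ (mul_left_injective x)] at h2
    have h3 := Finset.card_filter_add_card_filter_not (s := L') (fun y => y * y = 1)
    simp only [W] at h2 ⊢
    omega
  have hIsub : I ⊆ W ∪ {x, x * z} := by
    intro y hy
    simp only [I, Finset.mem_image, Finset.mem_filter, Finset.mem_univ, true_and] at hy
    obtain ⟨m, hm, rfl⟩ := hy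
    have hyU := t.norm m hm x t.xmem
    have hyy : m * x * m⁻¹ * (m * x * m⁻¹) = 1 := by
      rw [show m * x * m⁻¹ * (m * x * m⁻¹) = m * (x * x) * m⁻¹ by group, hxx]; group
    by_cases hc : x * (m * x * m⁻¹) = m * x * m⁻¹ * x
    · rcases hsingle _ hyU hyy hc with h | h | h | h
      · exact absurd (by simpa using h) hxne
      · exfalso
        refine t.vne ?_
        have h2 : (m * x * m⁻¹) • m • v = m • v := by
          rw [mul_smul, mul_smul, inv_smul_smul, t.fixed]
        rw [h] at h2
        exact MulAction.injective m ((t.free _ h2).trans (smul_zero m).symm)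
      · simp [h]
      · simp [h]
    · refine Finset.mem_union_left _ ?_
      simp only [W, L', Finset.mem_filter, Finset.mem_univ, true_and]
      exact ⟨⟨hyU, hc⟩, hyy⟩
  have hI : I.card ≤ W.card + 2 :=
    le_trans (Finset.card_le_card hIsub) (le_trans (Finset.card_union_le _ _)
      (Nat.add_le_add_left Finset.card_le_two _))
  have hL4 : 4 ≤ L.card := by
    have h4 : ({1, z, x, x * z} : Finset H).card = 4 := by
      have a1 : (1 : H) ≠ x * z := fun h => hxnz (by
        have : x * z * z = z := by rw [← h, one_mul]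
        rwa [mul_assoc, hzz, mul_one] at this)
      have a2 : z ≠ x * z := fun h => hxne (by
        have : 1 * z = x * z := by rw [one_mul]; exact h
        exact (mul_right_cancel this).symm)
      have a3 : x ≠ x * z := fun h => hz1 (mul_left_cancel (a := x) (by rw [mul_one, ← h]))
      simp [hz1.symm, hxne.symm, a1, a2, hxnz.symm, a3]
    rw [← h4]
    refine Finset.card_le_card fun y hy => ?_
    simp only [Finset.mem_insert, Finset.mem_singleton] at hy
    simp only [L, Finset.mem_filter, Finset.mem_univ, true_and]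
    rcases hy with rfl | rfl | rfl | rfl
    · exact ⟨U.one_mem, by group⟩
    · exact ⟨t.zmem, hxz⟩
    · exact ⟨t.xmem, rfl⟩
    · exact ⟨U.mul_mem t.xmem t.zmem, by rw [mul_assoc x z x, ← hxz]⟩
  have horb := s.orbit_le M t.cover I (fun y => (Subgroup.zpowers y : Set H)) q (by
    intro y hy
    simp only [I, Finset.mem_image, Finset.mem_filter, Finset.mem_univ, true_and] at hy
    obtain ⟨m, hm, rfl⟩ := hy
    exact le_of_eq (fix_zpowers_conj x m)) v t.vne (by
    intro m hm
    refine ⟨m * x * m⁻¹, ?_, (fix_zpowers _ _).mpr ?_⟩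
    · simp only [I, Finset.mem_image, Finset.mem_filter, Finset.mem_univ, true_and]
      exact ⟨m, hm, rfl⟩
    · rw [mul_smul, mul_smul, inv_smul_smul, t.fixed])
  have hq : q ^ 2 ≤ Nat.card V := shift_pow_le hcop x u z (t.central u t.umem)
    (t.central x t.xmem) t.conj t.order t.xpow t.free
  have hst : Nat.card ↥(U ⊓ MulAction.stabilizer H v) ≤ 2 := by
    rw [Nat.card_eq_fintype_card, Fintype.card_subtype]
    refine le_trans (Finset.card_le_card ?_) (Finset.card_le_two (a := (1 : H)) (b := x))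
    intro a ha
    simp only [Finset.mem_filter, Finset.mem_univ, true_and, Subgroup.mem_inf,
      MulAction.mem_stabilizer_iff] at ha
    have haa := sq_cases t hsq a ha.1 ha.2
    rw [pow_two] at haa
    have hc : x * a = a * x := by
      rcases t.conj_cases a x ha.1 t.xmem with h | h
      · exact (mul_inv_eq_iff_eq_mul.mp h).symm
      · exfalso
        refine t.vne (t.free v ?_)
        have h2 : (a * x * a⁻¹) • v = v := by
          rw [mul_smul, mul_smul, inv_smul_eq_iff.mpr ha.2.symm, t.fixed, ha.2]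
        rwa [h, hxz, mul_smul, t.fixed] at h2
    rcases hsingle a ha.1 haa hc with h | h | h | h
    · simp [h]
    · exact absurd (t.free v (h ▸ ha.2)) t.vne
    · simp [h]
    · refine absurd (t.free v ?_) t.vne
      have h2 := ha.2
      rw [h, hxz, mul_smul, t.fixed] at h2
      exact h2
  have hmul := card_orbit_mul U v
  have hlow := orbit_mono (v := v) t.le
  set o := Nat.card (MulAction.orbit ↥U v)
  have hUo : L.card + L'.card ≤ o * 2 := by
    rw [hLL, ← hmul]; exact Nat.mul_le_mul_left _ hst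
  have hIo : I.card ≤ o := by omega
  have hopos : 0 < o := by omega
  have h1 : K.index ≤ q - 1 := by
    refine Nat.le_of_mul_le_mul_right ?_ hopos
    calc K.index * o ≤ I.card * (q - 1) := le_trans (Nat.mul_le_mul_left _ hlow) horb
      _ ≤ o * (q - 1) := Nat.mul_le_mul_right _ hIo
      _ = _ := mul_comm _ _
  have hq1 : 1 ≤ q := (Set.ncard_pos (Set.toFinite _)).mpr ⟨0, fun y _ => smul_zero y⟩
  have h5 := s.big
  have h6 := Nat.pow_le_pow_left (show K.index + 1 ≤ q by omega) 2
  omega

theorem TwoStep.pair_shift (t : TwoStep K 2 M U z x u v) (y : H) (hy : y ∈ U)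
    (hyne : y ≠ 1 ∧ y ≠ z ∧ y ≠ x ∧ y ≠ x * z) (hyy : y * y = 1) (hxy : x * y = y * x) :
    ∃ w₁ ∈ U, ∃ w₂ ∈ U, w₁ * x * w₁⁻¹ = x * z ∧ w₁ * y * w₁⁻¹ = y ∧
      w₂ * x * w₂⁻¹ = x ∧ w₂ * y * w₂⁻¹ = y * z := by
  obtain ⟨hz1, hzz, hxx⟩ := t.two_basic
  have hmove : ∀ b ∈ U, b * b = 1 → b ≠ 1 → b ≠ z → ∃ w ∈ U, w * b * w⁻¹ = b * z := by
    intro b hb hbb hb1 hbz
    by_contra hc
    push_neg at hc
    obtain ⟨i, hi⟩ := t.cen b hb (fun a ha => by
      rcases t.conj_cases a b ha hb with h | h
      · exact (mul_inv_eq_iff_eq_mul.mp h).symm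
      · exact absurd h (hc a ha)) (by rw [pow_two, hbb])
    rw [← Nat.div_add_mod i 2, pow_add, pow_mul, pow_two, hzz, one_pow, one_mul] at hi
    rcases Nat.mod_two_eq_zero_or_one i with h | h <;> rw [h] at hi
    · exact hb1 (by simpa using hi)
    · exact hbz (by simpa using hi)
  -- composing two elements of `U`
  have hcomp : ∀ a ∈ U, ∀ b ∈ U, ∀ c e : H, a * c * a⁻¹ = c * e → b * c * b⁻¹ = c * z →
      a * (c * z) * a⁻¹ = c * e * z := by
    intro a ha b _ c e h1 _
    calc a * (c * z) * a⁻¹ = a * c * (z * a⁻¹) := by group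
      _ = a * c * (a⁻¹ * z) := by rw [t.central _ (U.inv_mem ha)]
      _ = _ := by rw [← h1]; group
  have hmul : ∀ a ∈ U, ∀ b ∈ U, ∀ c : H, a * c * a⁻¹ = c * z → b * c * b⁻¹ = c * z →
      (a * b) * c * (a * b)⁻¹ = c := by
    intro a ha b hb c h1 h2
    calc a * b * c * (a * b)⁻¹ = a * (b * c * b⁻¹) * a⁻¹ := by group
      _ = c * z * z := by rw [h2]; exact hcomp a ha b hb c z h1 h2
      _ = c := by rw [mul_assoc, hzz, mul_one]
  have hmul' : ∀ a ∈ U, ∀ b ∈ U, ∀ c : H, a * c * a⁻¹ = c → b * c * b⁻¹ = c * z →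
      (a * b) * c * (a * b)⁻¹ = c * z := by
    intro a ha b hb c h1 h2
    calc a * b * c * (a * b)⁻¹ = a * (b * c * b⁻¹) * a⁻¹ := by group
      _ = c * 1 * z := by rw [h2]; exact hcomp a ha b hb c 1 (by rw [mul_one]; exact h1) h2
      _ = c * z := by rw [mul_one]
  have hxy1 : x * y ≠ 1 := fun h => hyne.2.2.1 (by
    have : x * (x * y) = x := by rw [h, mul_one]
    rwa [← mul_assoc, hxx, one_mul] at this)
  have hxyz : x * y ≠ z := fun h => hyne.2.2.2 (by
    rw [← h, ← mul_assoc, hxx, one_mul])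
  obtain ⟨w, hw, hwc⟩ := hmove (x * y) (U.mul_mem t.xmem hy)
    (by rw [show x * y * (x * y) = x * (y * x) * y by group, ← hxy,
      show x * (x * y) * y = (x * x) * (y * y) by group, hxx, hyy, one_mul]) hxy1 hxyz
  have hsplit : w * (x * y) * w⁻¹ = (w * x * w⁻¹) * (w * y * w⁻¹) := by group
  rw [hsplit] at hwc
  obtain ⟨b, hb, hby⟩ := hmove y hy hyy hyne.1 hyne.2.1
  rcases t.conj_cases w x hw t.xmem with hwx | hwx
  · -- `w` moves `y` only
    have hwy : w * y * w⁻¹ = y * z := by
      rw [hwx, mul_assoc x y z] at hwc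
      exact mul_left_cancel hwc
    rcases t.conj_cases u y t.umem hy with huy | huy
    · exact ⟨u, t.umem, w, hw, t.conj, huy, hwx, hwy⟩
    · exact ⟨w * u, U.mul_mem hw t.umem, w, hw, hmul' w hw u t.umem x hwx t.conj,
        hmul w hw u t.umem y hwy huy, hwx, hwy⟩
  · -- `w` moves `x` only
    have hwy : w * y * w⁻¹ = y := by
      rw [hwx] at hwc
      have : x * (z * (w * y * w⁻¹)) = x * (y * z) := by rw [← mul_assoc, hwc, mul_assoc]
      have h2 := mul_left_cancel this
      rw [← t.central y hy] at h2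
      exact mul_left_cancel h2
    rcases t.conj_cases b x hb t.xmem with hbx | hbx
    · exact ⟨w, hw, b, hb, hwx, hwy, hbx, hby⟩
    · exact ⟨w, hw, w * b, U.mul_mem hw hb, hwx, hwy, hmul w hw b hb x hwx hbx,
        hmul' w hw b hb y hwy hby⟩

end Two

end Cfsg.Agent.AffineDerange
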