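import Cfsg.Agent.Lib.DerangeIndex.Chain

/-!
Elementary facts on fixed vectors of coprime linear actions.
-/

set_option autoImplicit false

namespace Cfsg.Agent.AffineDerange

variable {H V : Type*} [Group H] [Finite H] [AddCommGroup V] [Finite V] [DistribMulAction H V]

/-- The common fixed vectors of a set of group elements. -/
def Fix (Y : Set H) : Set V := {v | ∀ y ∈ Y, y • v = v}

theorem pow_card_le {ι : Type*} [Fintype ι] (B : ι → Subgroup H) (q : ℕ)
    (hcomm : ∀ i j, ∀ a ∈ B i, ∀ b ∈ B j, a * b = b * a)
    (hfix : ∀ i j, i ≠ j → ∀ v : V, v ∈ Fix (B i : Set H) → v ∈ Fix (B j : Set H) → v = 0)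
    (hcop : ∀ i, ∀ v : V, Nat.card (B i) • v = 0 → v = 0)
    (hq : ∀ i, q ≤ (Fix (V := V) (B i : Set H)).ncard) :
    q ^ Fintype.card ι ≤ Nat.card V := by
  classical
  haveI : Fintype H := Fintype.ofFinite H
  let f : (∀ i, ↥(Fix (V := V) (B i : Set H))) → V := fun w => ∑ i, (w i : V)
  have hproj : ∀ i j, i ≠ j → ∀ v : V, v ∈ Fix (B j : Set H) →
      ∑ b : B i, (b : H) • v = 0 := by
    intro i j hij v hv
    refine hfix i j hij _ ?_ ?_
    · intro y hy
      rw [Finset.smul_sum]
      refine Fintype.sum_equiv (Equiv.mulLeft (⟨y, hy⟩ : B i)) _ _ fun b => ?_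
      rw [← mul_smul]; rfl
    · intro y hy
      rw [Finset.smul_sum]
      refine Finset.sum_congr rfl fun b _ => ?_
      rw [← mul_smul, ← hcomm i j b b.2 y hy, mul_smul, hv y hy]
  have hf : Function.Injective f := by
    intro w w' h
    funext i
    apply Subtype.ext
    rw [← sub_eq_zero]
    refine hcop i _ ?_
    have h1 : ∑ b : B i, (b : H) • (f w - f w') = 0 := by
      rw [h]; simp
    simp only [f, ← Finset.sum_sub_distrib, Finset.smul_sum] at h1
    rw [Finset.sum_comm, Finset.sum_eq_single i] at h1
    · rw [Finset.sum_congr rfl (fun b _ => by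
        rw [smul_sub, (w i).2 b b.2, (w' i).2 b b.2]), Finset.sum_const, Finset.card_univ,
        ← Nat.card_eq_fintype_card] at h1
      exact h1
    · intro j _ hji
      refine hproj i j (Ne.symm hji) _ ?_
      intro y hy
      rw [smul_sub, (w j).2 y hy, (w' j).2 y hy]
    · simp
  refine le_trans ?_ (Nat.card_le_card_of_injective f hf)
  rw [Nat.card_pi]
  calc q ^ Fintype.card ι = ∏ _i : ι, q := by rw [Finset.prod_const, Finset.card_univ]
    _ ≤ _ := Finset.prod_le_prod' fun i _ => by rw [Nat.card_coe_set_eq]; exact hq i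

theorem pow_sum_fixed (g : H) (r : ℕ) (hg : g ^ r = 1) (v : V) :
    g • (∑ k ∈ Finset.range r, g ^ k • v) = ∑ k ∈ Finset.range r, g ^ k • v := by
  rw [Finset.smul_sum]
  have h1 := Finset.sum_range_succ' (fun k => g ^ k • v) r
  rw [Finset.sum_range_succ, hg, one_smul, pow_zero, one_smul] at h1
  have h2 := add_right_cancel h1
  rw [h2]
  exact Finset.sum_congr rfl fun k _ => by rw [← mul_smul, pow_succ']

theorem exists_fixed (a b : H) (r : ℕ) (hr : r.Prime) (ha : a ^ r = 1) (hb : b ^ r = 1)
    (hab : a * b = b * a) (hcop : ∀ v : V, r • v = 0 → v = 0) (v : V) (hv : v ≠ 0) :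
    (∃ w : V, w ≠ 0 ∧ b • w = w) ∨ ∃ i, ∃ w : V, w ≠ 0 ∧ (a * b ^ i) • w = w := by
  classical
  by_contra hc
  push_neg at hc
  obtain ⟨hB, hA⟩ := hc
  have hB0 : ∀ w : V, b • w = w → w = 0 := fun w h => by
    by_contra hw; exact hB w hw h
  have hA0 : ∀ i (w : V), (a * b ^ i) • w = w → w = 0 := fun i w h => by
    by_contra hw; exact hA i w hw h
  have hcom : Commute a b := hab
  have h1 : ∀ i, ∑ k ∈ Finset.range r, (a * b ^ i) ^ k • v = 0 := fun i =>
    hA0 i _ (pow_sum_fixed _ r (by
      rw [(hcom.pow_right i).mul_pow, ha, ← pow_mul, mul_comm, pow_mul, hb, one_pow, one_mul]) v)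
  have h2 : ∀ k ∈ Finset.range r, k ≠ 0 → ∑ i ∈ Finset.range r, (b ^ k) ^ i • v = 0 := by
    intro k hk hk0
    apply hB0
    have hkr : k < r := Finset.mem_range.mp hk
    have hcop' : Nat.Coprime k r := Nat.Coprime.symm
      ((hr.coprime_iff_not_dvd).mpr (Nat.not_dvd_of_pos_of_lt (by omega) hkr))
    obtain ⟨j, hj⟩ := Nat.exists_mul_mod_eq_one_of_coprime hcop' hr.one_lt
    have hbk : (b ^ k) ^ j = b := by
      conv_rhs => rw [← pow_one b]
      rw [← pow_mul, ← Nat.div_add_mod (k * j) r, hj.2, pow_add, pow_mul, hb, one_pow, one_mul]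
    have hfix := pow_sum_fixed (b ^ k) r (by rw [← pow_mul, mul_comm, pow_mul, hb, one_pow]) v
    have key : ∀ (m : ℕ) (S : V), b ^ k • S = S → (b ^ k) ^ m • S = S := by
      intro m S hS
      induction m with
      | zero => rw [pow_zero, one_smul]
      | succ m ih => rw [pow_succ, mul_smul, hS, ih]
    have h := key j _ hfix
    rw [hbk] at h
    exact h
  apply hv
  apply hcop
  have h3 : ∑ i ∈ Finset.range r, ∑ k ∈ Finset.range r, (a * b ^ i) ^ k • v = 0 :=
    Finset.sum_eq_zero fun i _ => h1 i
  rw [Finset.sum_comm] at h3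
  have h4 : ∀ k, ∑ i ∈ Finset.range r, (a * b ^ i) ^ k • v
      = a ^ k • ∑ i ∈ Finset.range r, (b ^ k) ^ i • v := by
    intro k
    rw [Finset.smul_sum]
    refine Finset.sum_congr rfl fun i _ => ?_
    rw [(hcom.pow_right i).mul_pow, ← pow_mul, ← pow_mul, mul_comm i k, mul_smul]
  simp only [h4] at h3
  rw [Finset.sum_eq_single 0 (fun k hk hk0 => by rw [h2 k hk hk0, smul_zero])
    (fun h => absurd (Finset.mem_range.mpr hr.pos) h)] at h3
  simpa using h3

/-- Elements separated by commutators with values in a fixed-point-free central subgroup are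
linearly independent. -/
theorem card_le_sq [Nontrivial V] (p : ℕ) [Fact p.Prime] [Module (ZMod p) V] (z : H)
    (hz : ∀ h : H, z * h = h * z) (S : Finset H)
    (hconj : ∀ s ∈ S, ∀ u : H, ∃ i : ℕ, u * s * u⁻¹ = s * z ^ i)
    (hsep : ∀ s ∈ S, ∀ t ∈ S, s ≠ t → ∃ (u : H) (i j : ℕ), u * s * u⁻¹ = s * z ^ i ∧
      u * t * u⁻¹ = t * z ^ j ∧ ∀ v : V, z ^ i • v = z ^ j • v → v = 0) :
    S.card ≤ Module.finrank (ZMod p) V * Module.finrank (ZMod p) V := by
  classical
  have key : ∀ T : Finset H, T ⊆ S → ∀ c : H → (V →+ V),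
      (∀ s (h : H) (v : V), c s (h • v) = h • c s v) →
      (∀ v : V, ∑ s ∈ T, c s (s • v) = 0) → ∀ s ∈ T, ∀ v, c s v = 0 := by
    intro T
    induction T using Finset.induction_on with
    | empty => simp
    | insert t T htT ih =>
      intro hsub c hc hsum
      have htS : t ∈ S := hsub (Finset.mem_insert_self t T)
      have hTS : T ⊆ S := fun x hx => hsub (Finset.mem_insert_of_mem hx)
      have hzero : ∀ s ∈ T, ∀ v, c s v = 0 := by
        intro s₀ hs₀
        obtain ⟨u, i₀, j, hi₀, hj, hne⟩ := hsep s₀ (hTS hs₀) t htS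
          (fun h => htT (h ▸ hs₀))
        have hconj' : ∀ s : H, ∃ i : ℕ, s ∈ S → u * s * u⁻¹ = s * z ^ i := fun s => by
          by_cases hs : s ∈ S
          · obtain ⟨i, hi⟩ := hconj s hs u; exact ⟨i, fun _ => hi⟩
          · exact ⟨0, fun h => absurd h hs⟩
        choose I hI using hconj'
        let I' : H → ℕ := fun s => if s = s₀ then i₀ else if s = t then j else I s
        have hI' : ∀ s ∈ S, u * s * u⁻¹ = s * z ^ I' s := by
          intro s hs
          by_cases h1 : s = s₀
          · simp only [I', h1, if_true]; exact hi₀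
          by_cases h2 : s = t
          · subst h2; simp only [I', if_neg h1, if_true]; exact hj
          · simp only [I', if_neg h1, if_neg h2]; exact hI s hs
        let c' : H → (V →+ V) := fun s =>
          (c s).comp (DistribSMul.toAddMonoidHom V (z ^ I' s) -
            DistribSMul.toAddMonoidHom V (z ^ j))
        have hzc : ∀ (n : ℕ) (h : H) (v : V), z ^ n • h • v = h • z ^ n • v := by
          intro n h v
          rw [← mul_smul, ← mul_smul, ((show Commute z h from hz h).pow_left n).eq]
        have hc' : ∀ s (h : H) (v : V), c' s (h • v) = h • c' s v := by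
          intro s h v
          simp only [c', AddMonoidHom.comp_apply, AddMonoidHom.sub_apply,
            DistribSMul.toAddMonoidHom_apply, hzc, ← smul_sub, hc]
        have hjt : I' t = j := by
          simp only [I']
          rw [if_neg (fun h : t = s₀ => htT (h ▸ hs₀))]
          simp
        have hsum' : ∀ v : V, ∑ s ∈ T, c' s (s • v) = 0 := by
          intro v
          have e1 : ∑ s ∈ insert t T, c s (z ^ I' s • s • v) = 0 := by
            have := congrArg (fun x => u • x) (hsum (u⁻¹ • v))
            simp only [smul_zero, Finset.smul_sum] at this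
            rw [← this]
            refine Finset.sum_congr rfl fun s hs => ?_
            rw [← hc, ← mul_smul, ← mul_smul, ← mul_smul, ← hI' s (hsub hs) |>.trans
              ((show Commute z s from hz s).pow_left _).eq.symm]
            try simp [mul_assoc]
          have e2 : ∑ s ∈ insert t T, c s (z ^ j • s • v) = 0 := by
            have := congrArg (fun x => z ^ j • x) (hsum v)
            simp only [smul_zero, Finset.smul_sum] at this
            rw [← this]
            exact Finset.sum_congr rfl fun s _ => hc s (z ^ j) (s • v)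
          have e3 : ∑ s ∈ insert t T, c' s (s • v) = 0 := by
            simp only [c', AddMonoidHom.comp_apply, AddMonoidHom.sub_apply,
              DistribSMul.toAddMonoidHom_apply, map_sub, Finset.sum_sub_distrib, e1, e2, sub_zero]
          rw [Finset.sum_insert htT] at e3
          have e4 : c' t (t • v) = 0 := by simp [c', hjt]
          rwa [e4, zero_add] at e3
        intro v
        have hinj : Function.Injective (fun w : V => z ^ I' s₀ • w - z ^ j • w) := by
          intro w w' h
          rw [← sub_eq_zero]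
          apply hne
          have hi : I' s₀ = i₀ := by simp [I']
          simp only [hi] at h
          rw [smul_sub, smul_sub, ← sub_eq_zero]
          rw [← sub_eq_zero] at h
          rw [← h]; abel
        obtain ⟨w, hw⟩ := (Finite.injective_iff_surjective.mp hinj) v
        rw [← hw]
        exact ih hTS c' hc' hsum' s₀ hs₀ w
      intro s hs v
      rcases Finset.mem_insert.mp hs with h1 | h1
      · subst h1
        have := hsum (s⁻¹ • v)
        rw [Finset.sum_insert htT, smul_inv_smul,
          Finset.sum_eq_zero (fun s hs => hzero s hs _), add_zero] at this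
        exact this
      · exact hzero s h1 v
  haveI : Module.Finite (ZMod p) V := Module.Finite.of_finite
  let L : H → (V →ₗ[ZMod p] V) := fun s =>
    (DistribSMul.toAddMonoidHom V s).toZModLinearMap p
  let Φ : (S → ZMod p) → (V →ₗ[ZMod p] V) := fun a => ∑ s, a s • L s
  have hΦ : Function.Injective Φ := by
    intro a a' h
    funext s
    rw [← sub_eq_zero]
    let d : H → ZMod p := fun x => if hx : x ∈ S then a ⟨x, hx⟩ - a' ⟨x, hx⟩ else 0
    let c : H → (V →+ V) := fun x => DistribSMul.toAddMonoidHom V (d x)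
    have hc : ∀ x (g : H) (v : V), c x (g • v) = g • c x v := fun x g v =>
      ((DistribSMul.toAddMonoidHom V g).toZModLinearMap p).map_smul (d x) v |>.symm
    have hsum : ∀ v : V, ∑ x ∈ S, c x (x • v) = 0 := by
      intro v
      have h1 := LinearMap.congr_fun h v
      simp only [Φ, LinearMap.sum_apply, LinearMap.smul_apply] at h1
      rw [← sub_eq_zero, ← Finset.sum_sub_distrib] at h1
      rw [← h1, ← Finset.sum_coe_sort S]
      refine Finset.sum_congr rfl fun x _ => ?_
      simp only [c, d, DistribSMul.toAddMonoidHom_apply, x.2, dite_true, sub_smul, L,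
        AddMonoidHom.coe_toZModLinearMap]
    have h0 := key S subset_rfl c hc hsum s s.2
    by_contra hne
    have hv : ∀ v : V, v = 0 := fun v => by
      have h2 : (a s - a' s) • v = 0 := by
        have := h0 v
        simpa [c, d] using this
      exact (smul_eq_zero_iff_right hne).mp h2
    obtain ⟨v, hv0⟩ := exists_ne (0 : V)
    exact hv0 (hv v)
  haveI : Module.Finite (ZMod p) (V →ₗ[ZMod p] V) := inferInstance
  haveI : Finite (V →ₗ[ZMod p] V) := Module.finite_of_finite (ZMod p)
  have hcard := Nat.card_le_card_of_injective Φ hΦ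
  rw [Module.natCard_eq_pow_finrank (K := ZMod p) (V := V →ₗ[ZMod p] V),
    Module.finrank_linearMap, Nat.card_fun, Nat.card_zmod, Nat.card_eq_fintype_card,
    Fintype.card_coe] at hcard
  exact (Nat.pow_le_pow_iff_right (Fact.out : p.Prime).one_lt).mp hcard

theorem orbit_mul (K M : Subgroup H) [K.Normal] (hM : DerangeIndex.Cover K M) (v : V)
    (hv : M ⊓ MulAction.stabilizer H v ≤ K) :
    K.index * Nat.card (MulAction.orbit ↥(M ⊓ K) v) = Nat.card (MulAction.orbit ↥M v) := by
  have h1 := DerangeIndex.card_orbit_mul M v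
  have h2 := DerangeIndex.card_orbit_mul (M ⊓ K) v
  have h3 := DerangeIndex.card_cover K M hM
  have he : M ⊓ K ⊓ MulAction.stabilizer H v = M ⊓ MulAction.stabilizer H v :=
    le_antisymm (inf_le_inf inf_le_left le_rfl) (le_inf (le_inf inf_le_left hv) inf_le_right)
  rw [he] at h2
  refine Nat.eq_of_mul_eq_mul_right (Nat.card_pos (α := ↥(M ⊓ MulAction.stabilizer H v))) ?_
  rw [h1, ← h3, ← h2]; ring

end Cfsg.Agent.AffineDerange
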