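import Cfsg.Agent.Lib.AffineDerange.Structure
import Cfsg.Agent.Lib.DerangeIndex.Main

/-!
In a primitive group of large degree that is not a Frobenius group, the subgroup generated by the
derangements has index `d` with `(d + 1) ^ 2 ≤ n`.
-/

set_option autoImplicit false

namespace Cfsg.Agent.AffineDerange

open DerangeIndex

theorem pow_bound (m : ℕ) (hm : 200 ≤ m) : 4096 * m ^ 16 ≤ 2 ^ m := by
  induction m, hm using Nat.le_induction with
  | base => norm_num
  | succ m hm ih =>
    have h1 : (200 * (m + 1)) ^ 16 ≤ (201 * m) ^ 16 := Nat.pow_le_pow_left (by omega) 16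
    rw [mul_pow, mul_pow] at h1
    have h2 : (201 : ℕ) ^ 16 * m ^ 16 ≤ 200 ^ 16 * (2 * m ^ 16) := by
      rw [← mul_assoc]
      exact Nat.mul_le_mul_right _ (by norm_num)
    have h3 : (m + 1) ^ 16 ≤ 2 * m ^ 16 :=
      Nat.le_of_mul_le_mul_left (h1.trans h2) (by norm_num)
    calc 4096 * (m + 1) ^ 16 ≤ 4096 * (2 * m ^ 16) := Nat.mul_le_mul_left _ h3
      _ = 2 * (4096 * m ^ 16) := by ring
      _ ≤ 2 * 2 ^ m := Nat.mul_le_mul_left _ ih
      _ = 2 ^ (m + 1) := by ring

theorem card_pow (p : ℕ) [Fact p.Prime] (V : Type*) [AddCommGroup V] [Finite V]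
    [Module (ZMod p) V] : Nat.card V = p ^ Module.finrank (ZMod p) V := by
  haveI : Module.Finite (ZMod p) V := Module.Finite.of_finite
  rw [Module.natCard_eq_pow_finrank (K := ZMod p), Nat.card_zmod]

theorem big_of_large (p m : ℕ) (hp : 2 ≤ p) (h : 2 ^ 136 ≤ p ^ m) :
    4096 * m ^ 16 ≤ p ^ m := by
  rcases Nat.lt_or_ge m 200 with hm | hm
  · refine le_trans ?_ h
    calc 4096 * m ^ 16 ≤ 4096 * 200 ^ 16 :=
          Nat.mul_le_mul_left _ (Nat.pow_le_pow_left hm.le 16)
      _ ≤ 2 ^ 136 := by norm_num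
  · exact (pow_bound m hm).trans (Nat.pow_le_pow_left hp m)

variable {G Ω : Type*} [Group G] [Finite G] [MulAction G Ω] [Finite Ω] [FaithfulSMul G Ω]

/-- Conjugation action of a point stabiliser on a normal subgroup, written additively. -/
def conjAdd (H M : Subgroup G) [M.Normal] [IsMulCommutative M] :
    DistribMulAction H (Additive M) where
  smul h v := Additive.ofMul
    ⟨(h : G) * (Additive.toMul v : M) * (h : G)⁻¹,
      Subgroup.Normal.conj_mem ‹M.Normal› _ (Additive.toMul v).2 _⟩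
  one_smul v := Additive.toMul.injective (Subtype.ext (by
    show (1 : G) * ((Additive.toMul v : M) : G) * (1 : G)⁻¹ = _
    simp))
  mul_smul g h v := Additive.toMul.injective (Subtype.ext (by
    show ((g : G) * h) * ((Additive.toMul v : M) : G) * ((g : G) * h)⁻¹
      = (g : G) * ((h : G) * ((Additive.toMul v : M) : G) * (h : G)⁻¹) * (g : G)⁻¹
    group))
  smul_zero h := Additive.toMul.injective (Subtype.ext (by
    show (h : G) * 1 * (h : G)⁻¹ = 1
    group))
  smul_add h v w := Additive.toMul.injective (Subtype.ext (by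
    show (h : G) * (((Additive.toMul v : M) : G) * ((Additive.toMul w : M) : G)) * (h : G)⁻¹
      = ((h : G) * ((Additive.toMul v : M) : G) * (h : G)⁻¹)
        * ((h : G) * ((Additive.toMul w : M) : G) * (h : G)⁻¹)
    group))

theorem affine_bound (hprim : MulAction.IsPreprimitive G Ω) (hn : 2 ^ 136 ≤ Nat.card Ω)
    (hnf : ¬ ((∃ g : G, g ≠ 1 ∧ ∃ ω : Ω, g • ω = ω) ∧
      ∀ g : G, g ≠ 1 → Nat.card (MulAction.fixedBy Ω g) ≤ 1))
    (M : Subgroup G) [M.Normal] [IsMulCommutative M] (hM : M ≠ ⊥) :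
    ((Subgroup.closure {g : G | ∀ ω : Ω, g • ω ≠ ω}).index + 1) ^ 2 ≤ Nat.card Ω := by
  classical
  haveI := hprim
  have hΩ : 4 ≤ Nat.card Ω := le_trans (by norm_num) hn
  haveI : Nontrivial Ω := Finite.one_lt_card_iff_nontrivial.mp (by omega)
  obtain ⟨a⟩ := (inferInstance : Nonempty Ω)
  set D := Subgroup.closure {g : G | ∀ ω : Ω, g • ω ≠ ω} with hDdef
  haveI hDn : D.Normal := ⟨fun x hx g => by
    have hle : D ≤ D.comap (MulAut.conj g).toMonoidHom := by
      rw [hDdef, Subgroup.closure_le]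
      intro y hy
      refine Subgroup.subset_closure fun ω he => hy (g⁻¹ • ω) ?_
      have h1 : (g * y * g⁻¹) • ω = ω := he
      rw [mul_smul, mul_smul] at h1
      calc y • g⁻¹ • ω = g⁻¹ • g • y • g⁻¹ • ω := (inv_smul_smul g _).symm
        _ = g⁻¹ • ω := by rw [h1]
    exact hle hx⟩
  have htrN : ∀ N : Subgroup G, N.Normal → N ≠ ⊥ → ∀ ω : Ω, ∃ m ∈ N, m • a = ω := by
    intro N hN hN1 ω
    haveI := hN
    obtain ⟨g, hg, hg1⟩ := (Subgroup.bot_or_exists_ne_one N).resolve_left hN1
    obtain ⟨b, hb⟩ : ∃ b : Ω, g • b ≠ b := by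
      by_contra hc
      push_neg at hc
      exact hg1 (eq_of_smul_eq_smul (fun z : Ω => by rw [hc z, one_smul]))
    rcases MulAction.IsPreprimitive.isTrivialBlock_of_isBlock
      (MulAction.IsBlock.orbit_of_normal (N := N) b) with h | h
    · exact absurd (h ⟨⟨g, hg⟩, rfl⟩ (MulAction.mem_orbit_self b)) hb
    · have h1 : a ∈ MulAction.orbit ↥N b := h ▸ Set.mem_univ a
      have h2 : ω ∈ MulAction.orbit ↥N b := h ▸ Set.mem_univ ω
      rw [← MulAction.orbit_eq_iff] at h1
      rw [← h1] at h2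
      obtain ⟨m, hm⟩ := h2
      exact ⟨m, m.2, hm⟩
  have hMt := htrN M inferInstance hM
  have hfree : ∀ m ∈ M, m • a = a → m = 1 := by
    intro m hm hma
    refine eq_of_smul_eq_smul (fun z : Ω => ?_)
    obtain ⟨w, hw, rfl⟩ := hMt z
    rw [one_smul, ← mul_smul, show m * w = w * m from congrArg Subtype.val
      ((‹IsMulCommutative M›).1.1 (⟨m, hm⟩ : M) ⟨w, hw⟩), mul_smul, hma]
  have hcardM : ∀ N : Subgroup G, N.Normal → N ≠ ⊥ → N ≤ M → Nat.card N = Nat.card Ω := by
    intro N hN hN1 hNM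
    refine Nat.card_eq_of_bijective (fun m : N => (m : G) • a) ⟨fun x y h => ?_, fun ω => ?_⟩
    · have h1 := hfree ((y : G)⁻¹ * x) (M.mul_mem (M.inv_mem (hNM y.2)) (hNM x.2))
        (by
          have h2 : (x : G) • a = (y : G) • a := h
          rw [mul_smul, h2, inv_smul_smul])
      exact Subtype.ext (inv_mul_eq_one.mp h1).symm
    · obtain ⟨m, hm, e⟩ := htrN N hN hN1 ω
      exact ⟨⟨m, hm⟩, e⟩
  -- a derangement: every nontrivial element of `M`
  have hMD : M ≤ D := by
    intro m hm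
    by_cases hm1 : m = 1
    · rw [hm1]; exact D.one_mem
    refine Subgroup.subset_closure fun ω he => hm1 ?_
    obtain ⟨w, hw, rfl⟩ := hMt ω
    refine hfree m hm ?_
    rw [← mul_smul, show m * w = w * m from congrArg Subtype.val
      ((‹IsMulCommutative M›).1.1 (⟨m, hm⟩ : M) ⟨w, hw⟩), mul_smul] at he
    exact MulAction.injective w he
  haveI hDt : MulAction.IsPretransitive ↥D Ω := ⟨fun x y => by
    obtain ⟨u, hu, rfl⟩ := hMt x
    obtain ⟨v, hv, rfl⟩ := hMt y
    exact ⟨⟨v * u⁻¹, D.mul_mem (hMD hv) (D.inv_mem (hMD hu))⟩, by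
      show (v * u⁻¹) • u • a = v • a
      rw [mul_smul, inv_smul_smul]⟩⟩
  set Hs := MulAction.stabilizer G a
  -- if the group is regular there is nothing to prove
  by_cases hreg : ∀ g : G, g ≠ 1 → ∀ ω : Ω, g • ω ≠ ω
  · have : D = ⊤ := eq_top_iff.mpr fun g _ => by
      by_cases hg : g = 1
      · rw [hg]; exact D.one_mem
      · exact Subgroup.subset_closure (hreg g hg)
    rw [this, Subgroup.index_top]
    omega
  push_neg at hreg
  obtain ⟨g₀, hg₀, hω₀⟩ : ∃ g : G, g ≠ 1 ∧ 1 < Nat.card (MulAction.fixedBy Ω g) := by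
    by_contra hc
    push_neg at hc
    exact hnf ⟨hreg, hc⟩
  by_contra hlt
  push_neg at hlt
  letI : CommGroup M := { (inferInstance : Group M) with mul_comm := ‹IsMulCommutative M›.1.1 }
  letI := conjAdd Hs M
  have hcoe : ∀ (h : Hs) (v : Additive M),
      ((Additive.toMul (h • v) : M) : G) = (h : G) * (Additive.toMul v : M) * (h : G)⁻¹ :=
    fun h v => rfl
  have hsmul : ∀ (h : Hs) (v : Additive M),
      ((Additive.toMul (h • v) : M) : G) • a = (h : G) • ((Additive.toMul v : M) : G) • a := by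
    intro h v
    rw [hcoe, mul_smul, mul_smul, inv_smul_eq_iff.mpr h.2.symm]
  have hcardV : Nat.card (Additive M) = Nat.card Ω :=
    (Nat.card_congr Additive.toMul).trans (hcardM M inferInstance hM le_rfl)
  set K := D.subgroupOf Hs
  have hidx : K.index = D.index := by
    have hcov : Cover D Hs := fun g => by
      obtain ⟨x, hx⟩ := MulAction.exists_smul_eq ↥D a (g • a)
      refine ⟨(x : G)⁻¹ * g, ?_, ?_⟩
      · show ((x : G)⁻¹ * g) • a = a
        rw [mul_smul, ← hx, Subgroup.smul_def, inv_smul_smul]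
      · simpa [mul_assoc] using hDn.conj_mem _ x.2 g⁻¹
    have h1 := card_cover D Hs hcov
    have h2 := K.card_mul_index
    have e : Nat.card K = Nat.card ↥(Hs ⊓ D) := Nat.card_congr
      { toFun := fun x => ⟨(x.1 : G), x.1.2, x.2⟩
        invFun := fun x => ⟨⟨x.1, x.2.1⟩, x.2.2⟩
        left_inv := fun _ => rfl
        right_inv := fun _ => rfl }
    rw [e, ← h1] at h2
    exact Nat.eq_of_mul_eq_mul_left Nat.card_pos h2
  have hirr : ∀ W : AddSubgroup (Additive M), (∀ h : Hs, ∀ w ∈ W, h • w ∈ W) →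
      W = ⊥ ∨ W = ⊤ := by
    intro W hW
    by_contra hc
    push_neg at hc
    let N : Subgroup G := (AddSubgroup.toSubgroup' W).map M.subtype
    have hmemN : ∀ g : G, g ∈ N ↔ ∃ w ∈ W, ((Additive.toMul w : M) : G) = g := by
      intro g
      constructor
      · rintro ⟨m, hm, rfl⟩; exact ⟨Additive.ofMul m, hm, rfl⟩
      · rintro ⟨w, hw, rfl⟩; exact ⟨Additive.toMul w, hw, rfl⟩
    have hNM : N ≤ M := Subgroup.map_subtype_le _
    obtain ⟨w, hw, hw0⟩ := (AddSubgroup.bot_or_exists_ne_zero W).resolve_left hc.1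
    have hwN : ((Additive.toMul w : M) : G) ∈ N := (hmemN _).mpr ⟨w, hw, rfl⟩
    have hN1 : N ≠ ⊥ := fun h => hw0 (by
      rw [h, Subgroup.mem_bot] at hwN
      exact Additive.toMul.injective (Subtype.ext hwN))
    have hle : Hs ≤ Subgroup.normalizer (N : Set G) := by
      have h1 : ∀ h ∈ Hs, ∀ g ∈ N, h * g * h⁻¹ ∈ N := by
        intro h hh g hg
        obtain ⟨v, hv, rfl⟩ := (hmemN g).mp hg
        exact (hmemN _).mpr ⟨(⟨h, hh⟩ : Hs) • v, hW _ v hv, hcoe _ v⟩
      intro h hh
      rw [Subgroup.mem_normalizer_iff]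
      exact fun g => ⟨h1 h hh g, fun hg => by
        simpa [mul_assoc] using h1 h⁻¹ (Hs.inv_mem hh) _ hg⟩
    have hlt' : Hs < Subgroup.normalizer (N : Set G) := by
      refine lt_of_le_of_ne hle fun he => hw0 ?_
      have h1 : ((Additive.toMul w : M) : G) ∈ Hs := by rw [he]; exact Subgroup.le_normalizer hwN
      exact Additive.toMul.injective (Subtype.ext (hfree _ (Additive.toMul w).2 h1))
    have hNn : N.Normal := Subgroup.normalizer_eq_top_iff.mp
      ((MulAction.IsPreprimitive.isCoatom_stabilizer_of_isPreprimitive G a).2 _ hlt')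
    refine hc.2 (eq_top_iff.mpr fun v _ => ?_)
    have h1 : N = M := Subgroup.eq_of_le_of_card_ge hNM
      (le_of_eq ((hcardM M inferInstance hM le_rfl).trans (hcardM N hNn hN1 hNM).symm))
    obtain ⟨w', hw', e⟩ := (hmemN ((Additive.toMul v : M) : G)).mp
      (by rw [h1]; exact (Additive.toMul v).2)
    rwa [← Additive.toMul.injective (Subtype.ext e)]
  have hset : Setting K (Additive M) := by
    refine ⟨fun h hh v hv => ?_, hirr, fun h hh => ?_, by rw [hcardV, hidx]; exact hlt⟩
    · have hhD : (h : G) ∉ D := hh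
      obtain ⟨z, -, hz⟩ := fix_unique D (h : G) (fun x hx => by
        by_contra hc
        push_neg at hc
        exact hhD ((D.mul_mem_cancel_left hx).mp (Subgroup.subset_closure hc))) (Ω := Ω)
      have h1 : (h : G) • ((Additive.toMul v : M) : G) • a = ((Additive.toMul v : M) : G) • a := by
        rw [← hsmul, hv]
      have h2 : ((Additive.toMul v : M) : G) • a = a := (hz _ h1).trans (hz a h.2).symm
      exact Additive.toMul.injective (Subtype.ext (hfree _ (Additive.toMul v).2 h2))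
    · refine Subtype.ext (eq_of_smul_eq_smul (fun z : Ω => ?_))
      obtain ⟨m, hm, rfl⟩ := hMt z
      show (h : G) • m • a = (1 : G) • m • a
      rw [one_smul]
      have h1 := hsmul h (Additive.ofMul ⟨m, hm⟩)
      rw [hh] at h1
      exact h1.symm
  obtain ⟨p, hp, hpn⟩ := Nat.exists_prime_and_dvd
    (show Nat.card (Additive M) ≠ 1 by omega)
  haveI := Fact.mk hp
  have hexp : ∀ v : Additive M, p • v = 0 := by
    let W : AddSubgroup (Additive M) :=
      { carrier := {v | p • v = 0}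
        zero_mem' := smul_zero p
        add_mem' := fun {x y} hx hy => by
          show p • (x + y) = 0
          rw [smul_add, show p • x = 0 from hx, show p • y = 0 from hy, add_zero]
        neg_mem' := fun {x} hx => by
          show p • -x = 0
          rw [smul_neg, show p • x = 0 from hx, neg_zero] }
    obtain ⟨w, hw⟩ := exists_prime_addOrderOf_dvd_card' p hpn
    rcases hirr W (fun h v hv => by
      show p • h • v = 0
      rw [← smul_comm h p v, show p • v = 0 from hv, smul_zero]) with h | h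
    · have h1 : w ∈ W := show p • w = 0 by rw [← hw]; exact addOrderOf_nsmul_eq_zero w
      rw [h, AddSubgroup.mem_bot] at h1
      rw [h1, addOrderOf_zero] at hw
      exact absurd hw hp.one_lt.ne
    · intro v
      have : v ∈ W := by rw [h]; trivial
      exact this
  letI : Module (ZMod p) (Additive M) := AddCommGroup.zmodModule hexp
  have hpow : Nat.card (Additive M) = p ^ Module.finrank (ZMod p) (Additive M) :=
    card_pow p (Additive M)
  have hbig : 4096 * Module.finrank (ZMod p) (Additive M) ^ 16 ≤ Nat.card (Additive M) := by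
    rw [hpow]
    exact big_of_large p _ hp.two_le (by rw [← hpow, hcardV]; exact hn)
  -- an element of the stabiliser with a nonzero fixed vector
  rw [Nat.card_coe_set_eq] at hω₀
  obtain ⟨x, y, hx, hy, hxy⟩ : ∃ x y : Ω, g₀ • x = x ∧ g₀ • y = y ∧ x ≠ y := by
    obtain ⟨x, hx, y, hy, hxy⟩ := (Set.one_lt_ncard (Set.toFinite _)).mp hω₀
    exact ⟨x, y, hx, hy, hxy⟩
  obtain ⟨u, hu, hux⟩ := hMt x
  set g := u⁻¹ * g₀ * u
  have hga : g ∈ Hs := by
    show (u⁻¹ * g₀ * u) • a = a
    rw [mul_smul, mul_smul, hux, hx, ← hux, inv_smul_smul]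
  obtain ⟨m, hm, hmy⟩ := hMt (u⁻¹ • y)
  refine hset.false_of_fixed p hbig ⟨g, hga⟩ (fun h => hg₀ ?_) (Additive.ofMul ⟨m, hm⟩)
    (fun h => hxy ?_) ?_
  · have h1 : u⁻¹ * g₀ * u = 1 := congrArg Subtype.val h
    calc g₀ = u * (u⁻¹ * g₀ * u) * u⁻¹ := by group
      _ = 1 := by rw [h1]; group
  · have h1 : m = 1 := congrArg (fun v : Additive M => ((Additive.toMul v : M) : G)) h
    rw [h1, one_smul] at hmy
    rw [← hux, hmy, smul_inv_smul]
  · have h1 := hsmul ⟨g, hga⟩ (Additive.ofMul ⟨m, hm⟩)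
    have h2 : g • m • a = m • a := by
      rw [hmy]
      show (u⁻¹ * g₀ * u) • u⁻¹ • y = u⁻¹ • y
      rw [mul_smul, mul_smul, smul_inv_smul, hy]
    replace h1 : ((Additive.toMul ((⟨g, hga⟩ : Hs) • Additive.ofMul (⟨m, hm⟩ : M)) : M) : G) • a
        = g • m • a := h1
    rw [h2] at h1
    refine Additive.toMul.injective (Subtype.ext ?_)
    refine (inv_mul_eq_one.mp (hfree (m⁻¹ * ((Additive.toMul ((⟨g, hga⟩ : Hs) • Additive.ofMul (⟨m, hm⟩ : M)) : M) : G))
      (M.mul_mem (M.inv_mem hm) (Subtype.coe_prop _)) ?_)).symm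
    rw [mul_smul, h1, inv_smul_smul]

/-- The bound for all primitive groups of large degree that are not Frobenius groups. -/
theorem primitive_bound (hprim : MulAction.IsPreprimitive G Ω) (hn : 2 ^ 136 ≤ Nat.card Ω)
    (hnf : ¬ ((∃ g : G, g ≠ 1 ∧ ∃ ω : Ω, g • ω = ω) ∧
      ∀ g : G, g ≠ 1 → Nat.card (MulAction.fixedBy Ω g) ≤ 1)) :
    ((Subgroup.closure {g : G | ∀ ω : Ω, g • ω ≠ ω}).index + 1) ^ 2 ≤ Nat.card Ω := by
  by_cases hna : ∀ N : Subgroup G, N.Normal → IsMulCommutative ↥N → N = ⊥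
  · exact DerangeIndex.index_bound hprim (le_trans (by norm_num) hn) hna
  push_neg at hna
  obtain ⟨N, hN, hNc, hN1⟩ := hna
  exact affine_bound hprim hn hnf N hN1

end Cfsg.Agent.AffineDerange
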