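import Cfsg.Agent.Lib.AffineDerange.ClassTwo

/-!
The case of two commuting involutions with independent commutator functionals.
-/

set_option autoImplicit false

namespace Cfsg.Agent.AffineDerange

open DerangeIndex

variable {H V : Type*} [Group H] [Finite H] [AddCommGroup V] [Finite V] [DistribMulAction H V]
  {K : Subgroup H} [K.Normal] {M U : Subgroup H} {z x u : H} {v : V}

omit [Finite H] [Finite V] in
theorem fix_closure (S : Set H) :
    Fix (V := V) (Subgroup.closure S : Set H) = Fix S :=
  Set.ext fun w => ⟨fun h y hy => h y (Subgroup.subset_closure hy), fun h y hy =>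
    (Subgroup.closure_le (MulAction.stabilizer H w)).mpr h hy⟩

omit [Finite H] in
theorem closure_commute (S T : Set H) (h : ∀ a ∈ S, ∀ b ∈ T, a * b = b * a) :
    ∀ a ∈ Subgroup.closure S, ∀ b ∈ Subgroup.closure T, a * b = b * a := by
  intro a ha b hb
  have h1 : Subgroup.closure S ≤ Subgroup.centralizer T :=
    (Subgroup.closure_le _).mpr fun c hc => Subgroup.mem_centralizer_iff.mpr fun d hd => (h c hc d hd).symm
  have h2 : Subgroup.closure T ≤ Subgroup.centralizer ({a} : Set H) :=
    (Subgroup.closure_le _).mpr fun d hd => Subgroup.mem_centralizer_iff.mpr fun c hc => by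
      rw [Set.mem_singleton_iff] at hc
      subst hc
      exact (Subgroup.mem_centralizer_iff.mp (h1 ha) d hd).symm
  exact Subgroup.mem_centralizer_iff.mp (h2 hb) a rfl

theorem TwoStep.false_pair (t : TwoStep K 2 M U z x u v) (s : Setting K V)
    (hcop : ∀ w : V, 2 • w = 0 → w = 0) (hsq : ∀ a ∈ U, a * a = 1 ∨ a * a = z)
    (p : ℕ) [Fact p.Prime] [Module (ZMod p) V]
    (hbig : 4096 * Module.finrank (ZMod p) V ^ 16 ≤ Nat.card V) (y : H) (hy : y ∈ U)
    (hyne : y ≠ 1 ∧ y ≠ z ∧ y ≠ x ∧ y ≠ x * z) (hyy : y * y = 1) (hxy : x * y = y * x)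
    (v' : V) (hv' : v' ≠ 0) (hxv : x • v' = v') (hyv : y • v' = v') : False := by
  classical
  haveI : Fact (Nat.Prime 2) := ⟨Nat.prime_two⟩
  haveI : Fintype H := Fintype.ofFinite H
  obtain ⟨hz1, hzz, hxx⟩ := t.two_basic
  obtain ⟨w₁, hw₁, w₂, hw₂, h1x, h1y, h2x, h2y⟩ := t.pair_shift y hy hyne hyy hxy
  have hzx := t.central x t.xmem
  have hzy := t.central y hy
  set q := (Fix (V := V) ({x, y} : Set H)).ncard
  set d := Module.finrank (ZMod p) V
  -- the pairs
  let P : Fin 2 × Fin 2 → Set H := fun i => {x * z ^ (i.1 : ℕ), y * z ^ (i.2 : ℕ)}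
  have hPcard : ∀ i, (Fix (V := V) (P i)).ncard = q := by
    rintro ⟨i, j⟩
    have hg : ((fun c => (w₁ ^ (i : ℕ) * w₂ ^ (j : ℕ)) * c * (w₁ ^ (i : ℕ) * w₂ ^ (j : ℕ))⁻¹) ''
        ({x, y} : Set H)) = P (i, j) := by
      rw [Set.image_pair]
      have hc1 : w₁ * (y * z) * w₁⁻¹ = y * z := by
        calc w₁ * (y * z) * w₁⁻¹ = w₁ * y * (z * w₁⁻¹) := by group
          _ = w₁ * y * (w₁⁻¹ * z) := by rw [t.central _ (U.inv_mem hw₁)]
          _ = w₁ * y * w₁⁻¹ * z := by group
          _ = _ := by rw [h1y]
      fin_cases i <;> fin_cases j <;>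
        simp only [P, Fin.zero_eta, Fin.mk_one, Fin.val_zero, Fin.val_one, pow_zero, pow_one,
          one_mul, mul_one, inv_one, h1x, h1y, h2x, h2y]
      rw [show w₁ * w₂ * x * (w₁ * w₂)⁻¹ = w₁ * (w₂ * x * w₂⁻¹) * w₁⁻¹ by group, h2x, h1x,
        show w₁ * w₂ * y * (w₁ * w₂)⁻¹ = w₁ * (w₂ * y * w₂⁻¹) * w₁⁻¹ by group, h2y, hc1]
    rw [← hg]; exact fix_conj_card _ _
  have hgenc : ∀ i j, ∀ a ∈ P i, ∀ b ∈ P j, a * b = b * a := by
    intro i j a ha b hb
    have key : ∀ c e : H, z * c = c * z → z * e = e * z → c * e = e * c → ∀ k l : ℕ,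
        c * z ^ k * (e * z ^ l) = e * z ^ l * (c * z ^ k) := by
      intro c e hc he hce k l
      exact (((show Commute c e from hce).mul_right ((show Commute z c from hc).symm.pow_right l)).mul_left
        (((show Commute z e from he).pow_left k).mul_right ((Commute.refl z).pow_pow k l))).eq
    simp only [P, Set.mem_insert_iff, Set.mem_singleton_iff] at ha hb
    rcases ha with rfl | rfl <;> rcases hb with rfl | rfl
    · exact key x x hzx hzx rfl _ _
    · exact key x y hzx hzy hxy _ _
    · exact key y x hzy hzx hxy.symm _ _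
    · exact key y y hzy hzy rfl _ _
  have hq4 : q ^ 4 ≤ Nat.card V := by
    have := pow_card_le (V := V) (fun i => Subgroup.closure (P i)) q
      (fun i j => closure_commute _ _ (hgenc i j)) ?_ ?_
      (fun i => by rw [fix_closure]; exact (hPcard i).ge)
    · simpa using this
    · intro i j hij w hwi hwj
      rw [fix_closure] at hwi hwj
      have key : ∀ c : H, z * c = c * z → ∀ k l : Fin 2, k ≠ l →
          (c * z ^ (k : ℕ)) • w = w → (c * z ^ (l : ℕ)) • w = w → w = 0 := by
        intro c _ k l hkl hk hl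
        rw [mul_smul] at hk hl
        have h : z ^ (k : ℕ) • w = z ^ (l : ℕ) • w := MulAction.injective c (hk.trans hl.symm)
        apply t.free
        rcases Fin.exists_fin_two.mp ⟨k, rfl⟩ with rfl | rfl <;>
          rcases Fin.exists_fin_two.mp ⟨l, rfl⟩ with rfl | rfl
        · exact absurd rfl hkl
        · rw [Fin.val_zero, Fin.val_one, pow_zero, pow_one, one_smul] at h
          exact h.symm
        · rw [Fin.val_zero, Fin.val_one, pow_zero, pow_one, one_smul] at h
          exact h
        · exact absurd rfl hkl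
      rcases eq_or_ne i.1 j.1 with h | h
      · exact key y hzy i.2 j.2 (fun h' => hij (Prod.ext h h')) (hwi _ (by simp [P])) (hwj _ (by simp [P]))
      · exact key x hzx i.1 j.1 h (hwi _ (by simp [P])) (hwj _ (by simp [P]))
    · intro i w hw
      refine cop_of_exponent hcop _ ?_ w hw
      intro a ha
      induction ha using Subgroup.closure_induction with
      | mem c hc =>
        simp only [P, Set.mem_insert_iff, Set.mem_singleton_iff] at hc
        rcases hc with rfl | rfl
        · rw [((show Commute z x from hzx).symm.pow_right _).mul_pow, pow_two, hxx, one_mul,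
            ← pow_mul, mul_comm, pow_mul, pow_two, hzz, one_pow]
        · rw [((show Commute z y from hzy).symm.pow_right _).mul_pow, pow_two, hyy, one_mul,
            ← pow_mul, mul_comm, pow_mul, pow_two, hzz, one_pow]
      | one => exact one_pow 2
      | mul c e hc he hc' he' =>
        rw [(show Commute c e from closure_commute _ _ (hgenc i i) c hc e he).mul_pow, hc', he',
          one_mul]
      | inv c _ hc' => rw [inv_pow, hc', inv_one]
  let I : Finset (H × H) :=
    (Finset.univ.filter (fun m => m ∈ M)).image fun m => (m * x * m⁻¹, m * y * m⁻¹)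
  have hI : I.card ≤ Nat.card U * Nat.card U := by
    rw [Nat.card_eq_fintype_card, Fintype.card_subtype, ← Finset.card_product]
    refine Finset.card_le_card fun w hw => ?_
    simp only [I, Finset.mem_image, Finset.mem_filter, Finset.mem_univ, true_and] at hw
    obtain ⟨m, hm, rfl⟩ := hw
    simp only [Finset.mem_product, Finset.mem_filter, Finset.mem_univ, true_and]
    exact ⟨t.norm m hm x t.xmem, t.norm m hm y hy⟩
  have horb := s.orbit_le M t.cover I (fun w => ({w.1, w.2} : Set H)) q (by
    intro w hw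
    simp only [I, Finset.mem_image, Finset.mem_filter, Finset.mem_univ, true_and] at hw
    obtain ⟨m, hm, rfl⟩ := hw
    have h := fix_conj_card (V := V) ({x, y} : Set H) m
    rw [Set.image_pair] at h
    exact le_of_eq h) v' hv' (by
    intro m hm
    refine ⟨(m * x * m⁻¹, m * y * m⁻¹), ?_, ?_⟩
    · simp only [I, Finset.mem_image, Finset.mem_filter, Finset.mem_univ, true_and]
      exact ⟨m, hm, rfl⟩
    · intro c hc
      simp only [Set.mem_insert_iff, Set.mem_singleton_iff] at hc
      rcases hc with rfl | rfl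
      · rw [mul_smul, mul_smul, inv_smul_smul, hxv]
      · rw [mul_smul, mul_smul, inv_smul_smul, hyv])
  have t' : TwoStep K 2 M U z x u v' :=
    ⟨t.cover, t.le, t.norm, t.zmem, t.order, t.central, t.free, t.comm, t.cen, t.xmem, t.umem,
      t.conj, t.xpow, hv', hxv⟩
  have hst := t'.stab_card p (fun a ha hfix => sq_cases t' hsq a ha hfix)
  have hU := t.card_U hsq p
  have hmul := card_orbit_mul U v'
  have hlow := orbit_mono (v := v') t.le
  set o := Nat.card (MulAction.orbit ↥U v')
  set sc := Nat.card ↥(U ⊓ MulAction.stabilizer H v')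
  have hopos : 0 < o := by
    rcases Nat.eq_zero_or_pos o with h | h
    · rw [h, zero_mul] at hmul; have := Nat.card_pos (α := U); omega
    · exact h
  have hd : 1 ≤ d * d := le_trans Nat.card_pos hst
  have hq1 : 1 ≤ q := (Set.ncard_pos (Set.toFinite _)).mpr ⟨0, fun y _ => smul_zero y⟩
  have h1 : K.index ≤ 4 * (d * d) * (d * d) * (q - 1) := by
    refine Nat.le_of_mul_le_mul_right ?_ hopos
    calc K.index * o ≤ I.card * (q - 1) := le_trans (Nat.mul_le_mul_left _ hlow) horb
      _ ≤ Nat.card U * Nat.card U * (q - 1) := Nat.mul_le_mul_right _ hI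
      _ = Nat.card U * (o * sc) * (q - 1) := by rw [hmul]
      _ ≤ 4 * (d * d) * (o * (d * d)) * (q - 1) :=
        Nat.mul_le_mul_right _ (Nat.mul_le_mul hU (Nat.mul_le_mul_left _ hst))
      _ = _ := by ring
  set e := 4 * (d * d) * (d * d)
  have h2 : K.index + 1 ≤ e * q := by
    have he : 1 ≤ e := Nat.one_le_iff_ne_zero.mpr (by positivity)
    have : e * q = e * (q - 1) + e := by
      rw [← Nat.mul_succ, Nat.succ_eq_add_one, Nat.sub_add_cancel hq1]
    omega
  have h5 := lt_of_lt_of_le s.big (Nat.pow_le_pow_left h2 2)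
  have h6 := Nat.pow_lt_pow_left h5 (n := 2) (by norm_num)
  have h7 : ((e * q) ^ 2) ^ 2 ≤ Nat.card V ^ 2 :=
    calc ((e * q) ^ 2) ^ 2 = 256 * d ^ 16 * q ^ 4 := by simp only [e]; ring
      _ ≤ 4096 * d ^ 16 * q ^ 4 :=
        Nat.mul_le_mul_right _ (Nat.mul_le_mul_right _ (by norm_num))
      _ ≤ Nat.card V * Nat.card V := Nat.mul_le_mul hbig hq4
      _ = _ := (pow_two _).symm
  omega

end Cfsg.Agent.AffineDerange
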