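import Cfsg.Agent.Lib.AffineDerange.Linear

/-!
The setting of a linear group with a normal subgroup `K` outside which every element acts without
fixed vectors, the abelian case and the cyclic index two case.
-/

set_option autoImplicit false

namespace Cfsg.Agent.AffineDerange

open DerangeIndex

variable {H V : Type*} [Group H] [Finite H] [AddCommGroup V] [Finite V] [DistribMulAction H V]

/-- An irreducible faithful linear group with a normal subgroup of index large against `|V|`,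
outside which all elements are fixed point free. -/
structure Setting (K : Subgroup H) (V : Type*) [AddCommGroup V] [DistribMulAction H V] : Prop where
  fpf : ∀ h, h ∉ K → ∀ v : V, h • v = v → v = 0
  irred : ∀ W : AddSubgroup V, (∀ h : H, ∀ w ∈ W, h • w ∈ W) → W = ⊥ ∨ W = ⊤
  faithful : ∀ h : H, (∀ v : V, h • v = v) → h = 1
  big : Nat.card V < (K.index + 1) ^ 2

variable {K : Subgroup H} [K.Normal]

theorem Setting.unique_fix (s : Setting K V) (g : H) (hg : g ∉ K) : ∃! v : V, g • v = v :=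
  ⟨0, smul_zero g, fun v hv => s.fpf g hg v hv⟩

theorem Setting.cover_irred (s : Setting K V) (C : Subgroup H) (hC : Cover K C) (W : AddSubgroup V)
    (hW : ∀ c ∈ C, ∀ w ∈ W, c • w ∈ W) : W = ⊥ ∨ W = ⊤ := by
  by_contra hc
  push_neg at hc
  have hCa : C ≤ MulAction.stabilizer H (0 : V) := fun c _ => smul_zero c
  have d1 := orbit_congr K s.unique_fix C hC 0 hCa (W : Set V) hW W.zero_mem
  have d2 := orbit_congr K s.unique_fix C hC 0 hCa Set.univ (fun _ _ _ _ => trivial) trivial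
  rw [Set.ncard_univ] at d2
  rw [← Nat.card_coe_set_eq, SetLike.coe_sort_coe] at d1
  have hW1 : 2 ≤ Nat.card W :=
    Finite.one_lt_card_iff_nontrivial.mpr (AddSubgroup.nontrivial_iff_ne_bot _ |>.mpr hc.1)
  have hn := W.card_mul_index
  have hi : 2 ≤ W.index := by
    have h1 : W.index ≠ 1 := fun h => hc.2 (AddSubgroup.index_eq_one.mp h)
    have h0 : W.index ≠ 0 := AddSubgroup.index_ne_zero_of_finite
    omega
  set w := Nat.card W
  set b := W.index
  have d3 : K.index ∣ b - 1 := by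
    have e : Nat.card V - 1 = (w - 1) * b + (b - 1) := by
      rw [← hn, Nat.sub_mul, one_mul]
      have : b ≤ w * b := Nat.le_mul_of_pos_left b (by omega)
      omega
    rw [e] at d2
    exact (Nat.dvd_add_right (d1.mul_right b)).1 d2
  have h1 := Nat.le_of_dvd (by omega) d1
  have h2 := Nat.le_of_dvd (by omega) d3
  have h3 : (K.index + 1) * (K.index + 1) ≤ Nat.card V := by
    rw [← hn]; exact Nat.mul_le_mul (by omega) (by omega)
  have := s.big
  rw [sq] at this
  omega

theorem Setting.fix_zero (s : Setting K V) (C : Subgroup H) (hC : Cover K C) (Y : Set H)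
    (hY : ∀ c ∈ C, ∀ y ∈ Y, c⁻¹ * y * c ∈ Y) (y : H) (hy : y ∈ Y) (hy1 : y ≠ 1) (v : V)
    (hv : v ∈ Fix Y) : v = 0 := by
  let W : AddSubgroup V :=
    { carrier := Fix Y
      zero_mem' := fun y _ => smul_zero y
      add_mem' := fun {a b} ha hb y hy => by rw [smul_add, ha y hy, hb y hy]
      neg_mem' := fun {a} ha y hy => by rw [smul_neg, ha y hy] }
  have hW : ∀ c ∈ C, ∀ w ∈ W, c • w ∈ W := by
    intro c hc w hw y hy
    have h1 : (c⁻¹ * y * c) • w = w := hw _ (hY c hc y hy)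
    rw [mul_smul, mul_smul, inv_smul_eq_iff] at h1
    exact h1
  rcases s.cover_irred C hC W hW with h | h
  · have : v ∈ W := hv
    rwa [h, AddSubgroup.mem_bot] at this
  · refine absurd (s.faithful y fun w => ?_) hy1
    have : w ∈ W := by rw [h]; trivial
    exact this y hy

theorem Setting.orbit_le (s : Setting K V) (M : Subgroup H) (hM : Cover K M) {ι : Type*}
    (I : Finset ι) (Y : ι → Set H) (q : ℕ) (hq : ∀ i ∈ I, (Fix (V := V) (Y i)).ncard ≤ q)
    (v : V) (hv : v ≠ 0) (hI : ∀ m ∈ M, ∃ i ∈ I, m • v ∈ Fix (Y i)) :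
    K.index * Nat.card (MulAction.orbit ↥(M ⊓ K) v) ≤ I.card * (q - 1) := by
  classical
  rw [orbit_mul K M hM v (fun g hg => by
    by_contra hgK; exact hv (s.fpf g hgK v hg.2))]
  rw [Nat.card_coe_set_eq]
  refine le_trans (Set.ncard_le_ncard (t := ⋃ i ∈ I, Fix (V := V) (Y i) \ {0}) ?_ (Set.toFinite _))
    ?_
  · rintro w ⟨m, rfl⟩
    obtain ⟨i, hi, h⟩ := hI m m.2
    refine Set.mem_biUnion hi ⟨h, fun h0 => hv ?_⟩
    exact MulAction.injective (m : H) (h0.trans (smul_zero _).symm)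
  · refine le_trans (Finset.set_ncard_biUnion_le I _) (le_of_le_of_eq (Finset.sum_le_card_nsmul I _
      (q - 1) fun i hi => ?_) (smul_eq_mul _ _))
    rw [Set.ncard_diff_singleton_of_mem (show (0 : V) ∈ Fix (Y i) from fun y _ => smul_zero y)]
    exact Nat.sub_le_sub_right (hq i hi) 1

omit [Finite H] in
theorem fix_conj_card (Y : Set H) (g : H) :
    (Fix (V := V) ((fun y => g * y * g⁻¹) '' Y)).ncard = (Fix (V := V) Y).ncard := by
  have : Fix (V := V) ((fun y => g * y * g⁻¹) '' Y) = (fun v => g • v) '' Fix Y := by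
    ext v
    constructor
    · intro hv
      refine ⟨g⁻¹ • v, fun y hy => ?_, smul_inv_smul g v⟩
      have h : (g * y * g⁻¹) • v = v := hv _ ⟨y, hy, rfl⟩
      rw [mul_smul, mul_smul] at h
      rw [eq_inv_smul_iff, h]
    · rintro ⟨w, hw, rfl⟩ _ ⟨y, hy, rfl⟩
      show (g * y * g⁻¹) • g • w = g • w
      rw [mul_smul, mul_smul, inv_smul_smul, hw y hy]
  rw [this, Set.ncard_image_of_injective _ (MulAction.injective g)]

omit [Finite V] in
theorem coprime_smul (r : ℕ) (hcop : ∀ v : V, r • v = 0 → v = 0) (k : ℕ) (v : V)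
    (h : r ^ k • v = 0) : v = 0 := by
  induction k generalizing v with
  | zero => simpa using h
  | succ k ih =>
    rw [pow_succ, mul_smul] at h
    exact hcop v (ih _ h)

theorem pgroup_of_exponent {r : ℕ} (A : Subgroup H) (h : ∀ a ∈ A, a ^ r = 1) : IsPGroup r A :=
  fun a => ⟨1, Subtype.ext (by simpa using h a a.2)⟩

theorem cop_of_exponent {r : ℕ} [Fact r.Prime] (hcop : ∀ v : V, r • v = 0 → v = 0)
    (A : Subgroup H) (h : ∀ a ∈ A, a ^ r = 1) (v : V) (hv : Nat.card A • v = 0) : v = 0 := by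
  obtain ⟨k, hk⟩ := (pgroup_of_exponent A h).exists_card_eq
  exact coprime_smul r hcop k v (hk ▸ hv)

theorem numeric_abelian (q T : ℕ) (hq : 2 ≤ q) (hT : 2 ≤ T) :
    (T * (q - 1) + 2) ^ 2 ≤ 4 * q ^ T := by
  obtain ⟨d, rfl⟩ : ∃ d, q = d + 1 := ⟨q - 1, by omega⟩
  simp only [Nat.add_sub_cancel]
  induction T, hT using Nat.le_induction with
  | base => exact le_of_eq (by ring)
  | succ T hT ih =>
    rw [pow_succ (d + 1) T, ← mul_assoc]
    refine le_trans ?_ (Nat.mul_le_mul_right _ ih)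
    have h1 : 2 * d ≤ T * d := Nat.mul_le_mul_right d hT
    rw [show (T + 1) * d + 2 = (T * d + 2) + d by ring]
    nlinarith [Nat.mul_le_mul_left d h1]

/-- A noncyclic elementary abelian subgroup invariant under a covering subgroup. -/
theorem Setting.false_of_abelian (s : Setting K V) {r : ℕ} [Fact r.Prime]
    (hcop : ∀ v : V, r • v = 0 → v = 0) (M A : Subgroup H) (hM : Cover K M) (hA : A ≤ M ⊓ K)
    (hMA : ∀ m ∈ M, ∀ a ∈ A, m⁻¹ * a * m ∈ A) (hexp : ∀ a ∈ A, a ^ r = 1)
    (hcomm : ∀ a ∈ A, ∀ b ∈ A, a * b = b * a) (a b : H) (ha : a ∈ A) (hb : b ∈ A) (hb1 : b ≠ 1)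
    (hab : a ∉ Subgroup.zpowers b) (v₀ : V) (hv₀ : v₀ ≠ 0) : False := by
  classical
  let P : ℕ → Prop := fun k => ∃ B ≤ A, Nat.card B = k ∧ ∃ v : V, v ≠ 0 ∧ v ∈ Fix (B : Set H)
  obtain ⟨g, hgA, hg1, w, hw, hgw⟩ : ∃ g ∈ A, g ≠ 1 ∧ ∃ w : V, w ≠ 0 ∧ g • w = w := by
    rcases exists_fixed a b r Fact.out (hexp a ha) (hexp b hb) (hcomm a ha b hb) hcop v₀ hv₀ with
      h | ⟨i, h⟩
    · exact ⟨b, hb, hb1, h⟩
    · refine ⟨a * b ^ i, A.mul_mem ha (A.pow_mem hb i), fun he => hab ?_, h⟩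
      rw [mul_eq_one_iff_eq_inv] at he
      rw [he]
      exact (Subgroup.zpowers b).inv_mem (Subgroup.pow_mem _ (Subgroup.mem_zpowers b) i)
  have hPg : P (Nat.card (Subgroup.zpowers g)) :=
    ⟨_, Subgroup.zpowers_le.mpr hgA, rfl, w, hw, fun y hy => by
      obtain ⟨i, rfl⟩ := hy
      exact (Subgroup.zpowers_le (H := MulAction.stabilizer H w)).mpr hgw ⟨i, rfl⟩⟩
  let k := Nat.findGreatest P (Nat.card A)
  have hkP : P k := Nat.findGreatest_spec
    (Subgroup.card_le_of_le (Subgroup.zpowers_le.mpr hgA)) hPg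
  have hkmax : ∀ j, P j → j ≤ k := fun j hj => Nat.le_findGreatest (by
    obtain ⟨B, hB, hBj, -⟩ := hj; rw [← hBj]; exact Subgroup.card_le_of_le hB) hj
  obtain ⟨B, hBA, hBk, v, hv, hvB⟩ := hkP
  let f : H → Set H := fun m => (fun y => m * y * m⁻¹) '' (B : Set H)
  haveI : Fintype H := Fintype.ofFinite H
  let I : Finset (Subgroup H) :=
    (Finset.univ.filter (fun m => m ∈ M)).image fun m => B.map (MulAut.conj m).toMonoidHom
  have hcoe : ∀ m : H, ((B.map (MulAut.conj m).toMonoidHom : Subgroup H) : Set H) = f m := by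
    intro m; ext y; simp [f, Subgroup.mem_map, MulAut.conj_apply]
  have hIle : ∀ B' ∈ I, B' ≤ A ∧ Nat.card B' = k ∧
      (Fix (V := V) (B' : Set H)).ncard = (Fix (V := V) (B : Set H)).ncard := by
    intro B' hB'
    simp only [I, Finset.mem_image, Finset.mem_filter, Finset.mem_univ, true_and] at hB'
    obtain ⟨m, hm, rfl⟩ := hB'
    refine ⟨?_, ?_, ?_⟩
    · rintro x ⟨y, hy, rfl⟩
      simpa using hMA m⁻¹ (M.inv_mem hm) y (hBA hy)
    · rw [← hBk]
      exact Nat.card_congr
        (B.equivMapOfInjective _ (MulAut.conj m).injective).symm.toEquiv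
    · rw [hcoe]; exact fix_conj_card _ m
  set q := (Fix (V := V) (B : Set H)).ncard
  have hA1 : ∀ u : V, u ∈ Fix (A : Set H) → u = 0 :=
    s.fix_zero M hM (A : Set H) hMA b hb hb1
  have hq : 2 ≤ q :=
    (Set.one_lt_ncard (Set.toFinite _)).mpr ⟨v, hvB, 0, fun y _ => smul_zero y, hv⟩
  have hind : q ^ I.card ≤ Nat.card V := by
    rw [← Fintype.card_coe]
    refine pow_card_le (fun i : I => (i : Subgroup H)) q
      (fun i j x hx y hy => hcomm x ((hIle i i.2).1 hx) y ((hIle j j.2).1 hy)) ?_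
      (fun i u hu => cop_of_exponent hcop _ (fun x hx => hexp x ((hIle i i.2).1 hx)) u hu)
      (fun i => ((hIle i i.2).2.2).ge)
    intro i j hij u hu hu'
    by_contra hu0
    obtain ⟨hiA, hik, -⟩ := hIle i i.2
    obtain ⟨hjA, hjk, -⟩ := hIle j j.2
    have hP : P (Nat.card ↥((i : Subgroup H) ⊔ (j : Subgroup H))) :=
      ⟨_, sup_le hiA hjA, rfl, u, hu0, fun y hy =>
        (sup_le (c := MulAction.stabilizer H u) hu hu') hy⟩
    have h1 := hkmax _ hP
    refine hij (Subtype.ext ?_)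
    have h2 : (i : Subgroup H) = (i : Subgroup H) ⊔ (j : Subgroup H) :=
      Subgroup.eq_of_le_of_card_ge le_sup_left (by omega)
    have h3 : (j : Subgroup H) = (i : Subgroup H) ⊔ (j : Subgroup H) :=
      Subgroup.eq_of_le_of_card_ge le_sup_right (by omega)
    rw [h2, ← h3]
  have hT : 2 ≤ I.card := by
    have h1 : B ∈ I := by
      simp only [I, Finset.mem_image, Finset.mem_filter, Finset.mem_univ, true_and]
      exact ⟨1, M.one_mem, by ext; simp⟩
    by_contra hT
    have hinv : ∀ m ∈ M, ∀ y ∈ (B : Set H), m⁻¹ * y * m ∈ (B : Set H) := by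
      intro m hm y hy
      have h2 : B.map (MulAut.conj m⁻¹).toMonoidHom ∈ I := by
        simp only [I, Finset.mem_image, Finset.mem_filter, Finset.mem_univ, true_and]
        exact ⟨m⁻¹, M.inv_mem hm, rfl⟩
      have h3 := Finset.card_le_one.mp (by omega) _ h2 _ h1
      rw [SetLike.mem_coe, ← h3]
      exact ⟨y, hy, by simp⟩
    have hB1 : Nat.card B ≠ 1 := by
      have h4 := hkmax _ hPg
      rw [Nat.card_zpowers] at h4
      have h5 : orderOf g ≠ 1 := fun h => hg1 (orderOf_eq_one_iff.mp h)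
      have h6 := orderOf_pos g
      omega
    obtain ⟨y, hy, hy1⟩ := (Subgroup.bot_or_exists_ne_one B).resolve_left
      (fun h => hB1 (by rw [h, Subgroup.card_bot]))
    exact hv (s.fix_zero M hM (B : Set H) hinv y hy hy1 v hvB)
  have horb := s.orbit_le M hM I (fun B' => (B' : Set H)) q (fun i hi => ((hIle i hi).2.2).le) v hv
    (fun m hm => by
      refine ⟨B.map (MulAut.conj m).toMonoidHom, ?_, ?_⟩
      · simp only [I, Finset.mem_image, Finset.mem_filter, Finset.mem_univ, true_and]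
        exact ⟨m, hm, rfl⟩
      · rw [hcoe]
        rintro _ ⟨y, hy, rfl⟩
        show (m * y * m⁻¹) • m • v = m • v
        rw [mul_smul, mul_smul, inv_smul_smul, hvB y hy])
  have h2 : 2 ≤ Nat.card (MulAction.orbit ↥(M ⊓ K) v) := by
    rw [Nat.card_coe_set_eq]
    by_contra hh
    refine hv (hA1 v fun y hy => ?_)
    have h1 : y • v ∈ MulAction.orbit ↥(M ⊓ K) v := ⟨⟨y, hA hy⟩, rfl⟩
    exact (Set.ncard_le_one (Set.toFinite _)).mp (by omega) _ h1 _ (MulAction.mem_orbit_self v)
  have h3 : K.index * 2 ≤ I.card * (q - 1) := le_trans (Nat.mul_le_mul_left _ h2) horb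
  have h4 := numeric_abelian q I.card hq hT
  have h5 := s.big
  nlinarith [Nat.pow_le_pow_left (show 2 * (K.index + 1) ≤ I.card * (q - 1) + 2 by omega) 2]

end Cfsg.Agent.AffineDerange
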