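import Cfsg.Agent.Lib.AffineDerange.Pair
import Cfsg.Agent.Lib.PowerOrbits.Struct
import Cfsg.Agent.Lib.SmallElements
import Cfsg.Agent.Lib.Metacyclic
import Cfsg.Agent.Lib.Elementary

/-!
A large index of `K` excludes fixed vectors of nontrivial elements.
-/

set_option autoImplicit false

namespace Cfsg.Agent.AffineDerange

open DerangeIndex
open scoped commutatorElement

universe u v

theorem cyclic_of_exponent_roots {A : Type*} [CommGroup A] [Finite A] {r : ℕ} [Fact r.Prime]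
    (hA : IsPGroup r A) (z : A) (hz : orderOf z = r)
    (h : ∀ a : A, a ^ r = 1 → a ∈ Subgroup.zpowers z) : IsCyclic A := by
  classical
  haveI : Fintype A := Fintype.ofFinite A
  have hr : r.Prime := Fact.out
  have hroot : ∀ k, (Finset.univ.filter fun a : A => a ^ r ^ k = 1).card ≤ r ^ k := by
    intro k
    induction k with
    | zero =>
      rw [pow_zero]
      exact le_trans (Finset.card_le_card (t := {1}) fun a ha => by simpa using ha) (le_of_eq (Finset.card_singleton 1))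
    | succ k ih =>
      have himg : (Finset.univ.filter fun a : A => a ^ r ^ (k + 1) = 1).image (fun a => a ^ r) ⊆
          Finset.univ.filter fun a : A => a ^ r ^ k = 1 := by
        intro b hb
        simp only [Finset.mem_image, Finset.mem_filter, Finset.mem_univ, true_and] at hb ⊢
        obtain ⟨a, ha, rfl⟩ := hb
        rw [← pow_mul, ← pow_succ']
        exact ha
      refine le_trans (Finset.card_le_mul_card_image _ r (fun b hb => ?_))
        (le_trans (Nat.mul_le_mul_left r ((Finset.card_le_card himg).trans ih))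
          (le_of_eq (pow_succ' r k).symm))
      rw [Finset.mem_image] at hb
      obtain ⟨a, -, rfl⟩ := hb
      refine le_trans (Finset.card_le_card_of_injOn (fun c => a⁻¹ * c)
        (t := Finset.univ.filter fun c : A => c ∈ Subgroup.zpowers z) ?_
        (fun c _ c' _ hcc => mul_left_cancel hcc)) (le_of_eq ?_)
      · intro c hc
        simp only [Finset.coe_filter, Finset.mem_univ, true_and, Set.mem_setOf_eq,
          Finset.mem_filter] at hc
        simp only [Finset.mem_coe, Finset.mem_filter, Finset.mem_univ, true_and]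
        exact h _ (by rw [mul_pow, inv_pow, hc.2, inv_mul_cancel])
      · rw [← Fintype.card_subtype, ← Nat.card_eq_fintype_card]
        exact (Nat.card_zpowers z).trans hz
  refine isCyclic_of_card_pow_eq_one_le fun n hn => ?_
  obtain ⟨e, he⟩ := hA.exists_card_eq
  obtain ⟨k, -, hk⟩ := (Nat.dvd_prime_pow hr).mp (he ▸ Nat.gcd_dvd_right n (Nat.card A))
  refine le_trans (Finset.card_le_card ?_) ((hroot k).trans ?_)
  · intro a ha
    simp only [Finset.mem_filter, Finset.mem_univ, true_and] at ha ⊢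
    rw [← hk]
    exact pow_gcd_eq_one.mpr ⟨ha, by rw [← he]; exact pow_card_eq_one'⟩
  · rw [← hk]; exact Nat.le_of_dvd hn (Nat.gcd_dvd_left n _)

variable {H : Type u} {V : Type v} [Group H] [Finite H] [AddCommGroup V] [Finite V]
  [DistribMulAction H V] {K : Subgroup H} [K.Normal]

theorem Setting.false_of_fixed (s : Setting K V) (p : ℕ) [Fact p.Prime] [Module (ZMod p) V]
    (hbig : 4096 * Module.finrank (ZMod p) V ^ 16 ≤ Nat.card V)
    (h₀ : H) (hh₀ : h₀ ≠ 1) (v₀ : V) (hv₀ : v₀ ≠ 0) (hfix₀ : h₀ • v₀ = v₀) : False := by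
  classical
  -- an element of prime order with a fixed vector
  obtain ⟨r, hr, hro⟩ := Nat.exists_prime_and_dvd (fun h => hh₀ (orderOf_eq_one_iff.mp h))
  haveI : Fact r.Prime := ⟨hr⟩
  set x₀ := h₀ ^ (orderOf h₀ / r) with hx₀def
  have hx₀ : orderOf x₀ = r := by
    rw [hx₀def, orderOf_pow_of_dvd, Nat.div_div_self hro (orderOf_pos h₀).ne']
    · exact Nat.div_ne_zero_iff.mpr ⟨hr.ne_zero, Nat.le_of_dvd (orderOf_pos h₀) hro⟩
    · exact Nat.div_dvd_of_dvd hro
  have hx₀1 : x₀ ≠ 1 := fun h => by rw [h, orderOf_one] at hx₀; exact hr.one_lt.ne hx₀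
  have hx₀v : x₀ • v₀ = v₀ := (MulAction.stabilizer H v₀).pow_mem hfix₀ _
  have hx₀K : x₀ ∈ K := by
    by_contra h; exact hv₀ (s.fpf x₀ h v₀ hx₀v)
  have hx₀p : IsPGroup r (Subgroup.zpowers x₀) :=
    IsPGroup.of_card (n := 1) (by rw [Nat.card_zpowers, hx₀, pow_one])
  obtain ⟨P, hP⟩ := (hx₀p.comap_of_injective K.subtype K.subtype_injective).exists_le_sylow
    (P := (Subgroup.zpowers x₀).subgroupOf K)
  set R := (P : Subgroup K).map K.subtype
  have hRK : R ≤ K := Subgroup.map_subtype_le _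
  have hxR : x₀ ∈ R := ⟨⟨x₀, hx₀K⟩, hP (Subgroup.mem_zpowers x₀), rfl⟩
  have hRp : IsPGroup r R := P.isPGroup'.map _
  set M := Subgroup.normalizer (R : Set H)
  have hM : Cover K M := by
    intro g
    have hRc : Nat.card R = r ^ (Nat.card K).factorization r := by
      rw [← P.card_eq_multiplicity]
      exact Nat.card_congr (Subgroup.equivMapOfInjective _ _ K.subtype_injective).symm.toEquiv
    obtain ⟨h, hh, hhN⟩ := frattini_in (q := r) K ⊤ R
      (fun m _ h hh => Subgroup.Normal.conj_mem ‹K.Normal› h hh m) hRK hRc g trivial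
    refine ⟨h * g, hhN, ?_⟩
    simpa [mul_assoc] using Subgroup.Normal.conj_mem ‹K.Normal› _ (K.inv_mem hh) g⁻¹
  have hMR : ∀ m ∈ M, ∀ a ∈ R, m * a * m⁻¹ ∈ R :=
    fun m hm a ha => (Subgroup.mem_normalizer_iff.mp hm a).mp ha
  have hRM : R ≤ M ⊓ K := le_inf Subgroup.le_normalizer hRK
  have hzero : ∀ (Y : Set H), (∀ m ∈ M, ∀ y ∈ Y, m * y * m⁻¹ ∈ Y) → ∀ y ∈ Y, y ≠ 1 →
      ∀ w : V, w ∈ Fix Y → w = 0 := fun Y hY y hy hy1 w hw =>
    s.fix_zero M hM Y (fun c hc b hb => by simpa using hY c⁻¹ (M.inv_mem hc) b hb) y hy hy1 w hw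
  -- the characteristic is prime to `r`
  have hrp : r ≠ p := by
    rintro rfl
    haveI : Module.Finite (ZMod r) V := Module.Finite.of_finite
    have hV : r ∣ Nat.card V := by
      rw [Module.natCard_eq_pow_finrank (K := ZMod r), Nat.card_zmod]
      refine dvd_pow_self r fun hf => ?_
      have h1 : Nat.card V = 1 := by
        rw [Module.natCard_eq_pow_finrank (K := ZMod r), hf, pow_zero]
      exact hv₀ ((Nat.card_eq_one_iff_unique.mp h1).1.elim v₀ 0)
    obtain ⟨w, hw, hw0⟩ := hRp.exists_fixed_point_of_prime_dvd_card_of_fixed_point V hV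
      (a := (0 : V)) (fun g => smul_zero _)
    exact hw0.symm (hzero (R : Set H) hMR x₀ hxR hx₀1 w fun y hy => hw ⟨y, hy⟩)
  have hcop : ∀ w : V, r • w = 0 → w = 0 := by
    intro w hw
    have h1 : ((r : ZMod p)) • w = 0 := by rw [Nat.cast_smul_eq_nsmul]; exact hw
    refine (smul_eq_zero_iff_right ?_).mp h1
    intro h
    rw [ZMod.natCast_eq_zero_iff] at h
    exact hrp ((Nat.prime_dvd_prime_iff_eq Fact.out hr).mp h).symm
  -- the central element
  haveI : Nontrivial R := ⟨⟨⟨x₀, hxR⟩, 1, fun h => hx₀1 (congrArg Subtype.val h)⟩⟩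
  haveI := hRp.center_nontrivial
  obtain ⟨z', hz'⟩ := exists_prime_orderOf_dvd_card' (G := Subgroup.center R) r (by
    obtain ⟨e, he⟩ := IsPGroup.iff_card.1 (hRp.to_subgroup (Subgroup.center R))
    rcases Nat.eq_zero_or_pos e with rfl | he0
    · exact absurd he (Finite.one_lt_card (α := Subgroup.center R)).ne'
    · rw [he]; exact dvd_pow_self r he0.ne')
  set z : H := ((z' : R) : H)
  have hz : orderOf z = r := by rw [Subgroup.orderOf_coe, Subgroup.orderOf_coe, hz']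
  have hzR : z ∈ R := (z' : R).2
  have hz1 : z ≠ 1 := fun h => by rw [h, orderOf_one] at hz; exact hr.one_lt.ne hz
  have hzr : z ^ r = 1 := hz ▸ pow_orderOf_eq_one z
  have hzc : ∀ a ∈ R, z * a = a * z := fun a ha =>
    (congrArg Subtype.val (Subgroup.mem_center_iff.mp z'.2 ⟨a, ha⟩)).symm
  have helem : ∀ A : Subgroup H, A ≤ R → (∀ m ∈ M, ∀ a ∈ A, m * a * m⁻¹ ∈ A) →
      (∀ a ∈ A, a ^ r = 1) → (∀ a ∈ A, ∀ b ∈ A, a * b = b * a) → z ∈ A →
      ∀ a ∈ A, a ∈ Subgroup.zpowers z := by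
    intro A hA hAM hexp hcomm hzA a ha
    by_contra hna
    exact s.false_of_abelian hcop M A hM (hA.trans hRM)
      (fun m hm b hb => by simpa using hAM m⁻¹ (M.inv_mem hm) b hb) hexp hcomm a z ha hzA hz1 hna
      v₀ hv₀
  let A₀ : Subgroup H :=
    { carrier := {a | a ∈ R ∧ (∀ b ∈ R, a * b = b * a) ∧ a ^ r = 1}
      one_mem' := ⟨R.one_mem, fun b _ => by group, one_pow r⟩
      mul_mem' := fun {a b} ha hb => ⟨R.mul_mem ha.1 hb.1,
        fun c hc => (Commute.mul_left (ha.2.1 c hc) (hb.2.1 c hc)),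
        by rw [(show Commute a b from ha.2.1 b hb.1).mul_pow, ha.2.2, hb.2.2, one_mul]⟩
      inv_mem' := fun {a} ha => ⟨R.inv_mem ha.1,
        fun c hc => (show Commute a c from ha.2.1 c hc).inv_left,
        by rw [inv_pow, ha.2.2, inv_one]⟩ }
  have hA₀M : ∀ m ∈ M, ∀ a ∈ A₀, m * a * m⁻¹ ∈ A₀ := by
    intro m hm a ha
    refine ⟨hMR m hm a ha.1, fun b hb => ?_, by rw [conj_pow, ha.2.2]; group⟩
    have hb' := hMR m⁻¹ (M.inv_mem hm) b hb
    rw [inv_inv] at hb'
    calc m * a * m⁻¹ * b = m * (a * (m⁻¹ * b * m)) * m⁻¹ := by group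
      _ = b * (m * a * m⁻¹) := by rw [ha.2.1 _ hb']; group
  have hzA₀ : z ∈ A₀ := ⟨hzR, hzc, hzr⟩
  have hA₀ : ∀ a ∈ A₀, a ∈ Subgroup.zpowers z :=
    helem A₀ (fun a ha => ha.1) hA₀M (fun a ha => ha.2.2) (fun a ha b hb => ha.2.1 b hb.1) hzA₀
  have hzM : ∀ m ∈ M, m * z * m⁻¹ ∈ Subgroup.zpowers z := fun m hm => hA₀ _ (hA₀M m hm z hzA₀)
  have hzpM : ∀ m ∈ M, ∀ y ∈ Subgroup.zpowers z, m * y * m⁻¹ ∈ Subgroup.zpowers z := by
    rintro m hm _ ⟨i, rfl⟩
    show m * z ^ i * m⁻¹ ∈ _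
    rw [← conj_zpow]
    exact Subgroup.zpow_mem _ (hzM m hm) i
  have hfree : ∀ w : V, z • w = w → w = 0 := fun w hw =>
    hzero (Subgroup.zpowers z : Set H) hzpM z (Subgroup.mem_zpowers z) hz1 w
      ((fix_zpowers z w).mpr hw)
  have hpowers : ∀ y ∈ Subgroup.zpowers z, ∃ i : ℕ, y = z ^ i := fun y hy => by
    obtain ⟨i, hi⟩ := (mem_powers_iff_mem_zpowers.mpr hy)
    exact ⟨i, hi.symm⟩
  have hzpc : ∀ y ∈ Subgroup.zpowers z, ∀ a ∈ R, y * a = a * y := by
    rintro _ ⟨i, rfl⟩ a ha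
    exact ((show Commute z a from hzc a ha).zpow_left i).eq
  by_cases hcyc : ∀ A : Subgroup R, A.Normal → IsMulCommutative A → IsCyclic A
  · -- cyclic, or a cyclic subgroup of index two
    rcases CfsgLib.PowerOrbits.cyclic_or_two hRp hcyc with h | ⟨hr2, c, y, j, hcard, h4, hj, hconj⟩
    · have := CfsgLib.Metacyclic.mem_zpowers_of_isCyclic (p := r) (a := (⟨z, hzR⟩ : R))
        (b := (⟨x₀, hxR⟩ : R)) (Subtype.ext hzr) (fun h => hz1 (congrArg Subtype.val h))
        (Subtype.ext (by rw [Subgroup.coe_pow, ← hx₀, pow_orderOf_eq_one]; rfl))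
      obtain ⟨i, hi⟩ := this
      have hi' : z ^ i = x₀ := by simpa using congrArg Subtype.val hi
      have hx₀z : x₀ ∈ Subgroup.zpowers z := ⟨i, hi'⟩
      obtain ⟨k, hk⟩ := hpowers x₀ hx₀z
      exact hv₀ (z_fpf hzr hfree k (hk ▸ hx₀1) v₀ (hk ▸ hx₀v))
    subst hr2
    have hc2 : (Subgroup.zpowers c).index = 2 := by
      have := (Subgroup.zpowers c).card_mul_index
      rw [Nat.card_zpowers, hcard, mul_comm 2] at this
      exact Nat.eq_of_mul_eq_mul_left (orderOf_pos c) this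
    have hnc : y * c ≠ c * y := by
      intro h
      have h1 : c ^ j = c ^ 1 := by rw [← hconj, h, mul_inv_cancel_right, pow_one]
      rw [pow_eq_pow_iff_modEq] at h1
      have h2 := h1.of_dvd h4
      rw [Nat.ModEq, hj] at h2
      exact absurd h2 (by norm_num)
    have hcomm_all : ∀ g : R, g ∉ Subgroup.zpowers c → g * c ≠ c * g := by
      intro g hg h
      apply hnc
      by_cases hy : y ∈ Subgroup.zpowers c
      · obtain ⟨i, rfl⟩ := hy
        exact ((Commute.refl c).zpow_left i).eq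
      · have h1 : y * g⁻¹ ∈ Subgroup.zpowers c := by
          rw [Subgroup.mul_mem_iff_of_index_two hc2, (Subgroup.zpowers c).inv_mem_iff]
          exact iff_of_false hy hg
        obtain ⟨i, hi⟩ := h1
        have hy' : y = c ^ i * g := by rw [show c ^ i = y * g⁻¹ from hi, inv_mul_cancel_right]
        rw [hy']
        exact (((Commute.refl c).zpow_left i).mul_left h).eq
    set C := (Subgroup.zpowers c).map R.subtype
    have hCR : C ≤ R := Subgroup.map_subtype_le _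
    haveI : IsCyclic C :=
      isCyclic_of_surjective ((Subgroup.zpowers c).equivMapOfInjective R.subtype R.subtype_injective)
        (MulEquiv.surjective _)
    have hzC : (⟨z, hzR⟩ : R) ∈ Subgroup.zpowers c := by
      by_contra h
      exact hcomm_all _ h (Subtype.ext (hzc c c.2))
    have hx₀C : (⟨x₀, hxR⟩ : R) ∉ Subgroup.zpowers c := by
      intro h
      have h1 := eq_of_sq_cyclic (Subgroup.zpowers c) _ _ h hzC
        (Subtype.ext (by rw [Subgroup.coe_mul, ← pow_two]; exact hx₀ ▸ pow_orderOf_eq_one x₀))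
        (Subtype.ext (by rw [Subgroup.coe_mul, ← pow_two]; exact hzr))
        (fun e => hx₀1 (congrArg Subtype.val e)) (fun e => hz1 (congrArg Subtype.val e))
      have h2 : x₀ = z := congrArg Subtype.val h1
      exact hv₀ (hfree v₀ (h2 ▸ hx₀v))
    refine s.false_of_cyclicTwo hcop M R C hM hRM hCR ?_ hMR (hRp.to_le hCR) z
      ⟨_, hzC, rfl⟩ hz hzc ?_ hfree x₀ hxR (by rw [← pow_two, ← hx₀, pow_orderOf_eq_one]) ?_ ?_
      v₀ hv₀ hx₀v
    · rw [hcard, ← Nat.card_zpowers]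
      congr 1
      exact Nat.card_congr
        ((Subgroup.zpowers c).equivMapOfInjective R.subtype R.subtype_injective).toEquiv
    · intro m hm
      obtain ⟨i, hi⟩ := hpowers _ (hzM m hm)
      rw [← Nat.div_add_mod i 2, pow_add, pow_mul, hzr, one_pow, one_mul] at hi
      rcases Nat.mod_two_eq_zero_or_one i with h | h <;> rw [h] at hi
      · exact absurd (by simpa using hi) hz1
      · simpa using hi
    · rintro ⟨w, hw, hwx⟩
      exact hx₀C (by
        have : w = ⟨x₀, hxR⟩ := Subtype.ext hwx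
        rwa [← this])
    · refine ⟨c, ⟨c, Subgroup.mem_zpowers c, rfl⟩, fun h => hcomm_all _ hx₀C ?_⟩
      exact Subtype.ext h.symm
  -- a normal elementary abelian subgroup of order `r ^ 2`
  push_neg at hcyc
  obtain ⟨B, hBn, hBc, hBnc⟩ := hcyc
  haveI := hBn
  haveI := hBc
  have hB1 : B ≠ ⊥ := by
    intro h; exact hBnc (by rw [h]; infer_instance)
  let Zp : Subgroup R := (Subgroup.zpowers z).subgroupOf R
  haveI hZn : Zp.Normal := ⟨fun y hy g => by
    show (g : H) * y * (g : H)⁻¹ ∈ Subgroup.zpowers z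
    rw [← (show (y : H) * g = (g : H) * y from hzpc _ hy g g.2), mul_inv_cancel_right]
    exact hy⟩
  let B₁ : Subgroup R :=
    { carrier := {b | b ∈ B ∧ b ^ r = 1}
      one_mem' := ⟨B.one_mem, one_pow r⟩
      mul_mem' := fun {a b} ha hb => ⟨B.mul_mem ha.1 hb.1, by
        rw [(show Commute a b from congrArg Subtype.val
          (hBc.1.1 (⟨a, ha.1⟩ : B) ⟨b, hb.1⟩)).mul_pow, ha.2, hb.2, one_mul]⟩
      inv_mem' := fun {a} ha => ⟨B.inv_mem ha.1, by rw [inv_pow, ha.2, inv_one]⟩ }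
  haveI hB₁n : B₁.Normal :=
    ⟨fun b hb g => ⟨hBn.conj_mem b hb.1 g, by rw [conj_pow, hb.2]; group⟩⟩
  haveI := hRp.isNilpotent
  have hB₁Z : ¬ B₁ ≤ Zp := by
    intro hle
    apply hBnc
    obtain ⟨w, hwB, hw1⟩ := (Subgroup.bot_or_exists_ne_one _).resolve_left
      (CfsgLib.inf_center_ne_bot_of_nilpotent hB1)
    obtain ⟨hwB, hwc⟩ := Subgroup.mem_inf.mp hwB
    obtain ⟨e, he⟩ := IsPGroup.iff_orderOf.mp hRp w
    obtain ⟨e', rfl⟩ : ∃ e', e = e' + 1 := Nat.exists_eq_add_one.mpr (Nat.pos_of_ne_zero fun h => by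
      rw [h, pow_zero, orderOf_eq_one_iff] at he; exact hw1 he)
    set z₁ := w ^ r ^ e'
    have hz₁ : orderOf z₁ = r := by
      have hne : r ^ e' ≠ 0 := pow_ne_zero _ hr.ne_zero
      rw [orderOf_pow_of_dvd hne (by rw [he]; exact pow_dvd_pow r (Nat.le_succ e')), he,
        pow_succ, Nat.mul_div_cancel_left _ (Nat.pos_of_ne_zero hne)]
    have hz₁B : z₁ ∈ B := B.pow_mem hwB _
    have hz₁Z : (z₁ : H) ∈ Subgroup.zpowers z := hle ⟨hz₁B, hz₁ ▸ pow_orderOf_eq_one z₁⟩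
    have hspan : Subgroup.zpowers z ≤ Subgroup.zpowers (z₁ : H) := by
      refine (Subgroup.eq_of_le_of_card_ge (Subgroup.zpowers_le.mpr hz₁Z) ?_).ge
      rw [Nat.card_zpowers, Nat.card_zpowers, hz, Subgroup.orderOf_coe, hz₁]
    letI : CommGroup B := { (inferInstance : Group B) with mul_comm := hBc.1.1 }
    refine cyclic_of_exponent_roots (hRp.to_subgroup B) ⟨z₁, hz₁B⟩
      (by rw [Subgroup.orderOf_mk, hz₁]) fun a ha => ?_
    have h1 : ((a : R) : H) ∈ Subgroup.zpowers z :=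
      hle ⟨a.2, by simpa using congrArg Subtype.val ha⟩
    obtain ⟨i, hi⟩ := hspan h1
    exact ⟨i, Subtype.ext (Subtype.ext (by simpa using hi))⟩
  haveI := (hRp.to_quotient Zp).isNilpotent
  haveI : (B₁.map (QuotientGroup.mk' Zp)).Normal :=
    Subgroup.Normal.map inferInstance _ (QuotientGroup.mk'_surjective Zp)
  obtain ⟨w, hw, hw1⟩ := (Subgroup.bot_or_exists_ne_one _).resolve_left
    (CfsgLib.inf_center_ne_bot_of_nilpotent (N := B₁.map (QuotientGroup.mk' Zp)) (fun e => hB₁Z (by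
      rw [Subgroup.map_eq_bot_iff, QuotientGroup.ker_mk'] at e; exact e)))
  obtain ⟨hwB, hwc⟩ := Subgroup.mem_inf.mp hw
  obtain ⟨y, hy, rfl⟩ := hwB
  have hyZ : (y : H) ∉ Subgroup.zpowers z := fun h =>
    hw1 ((QuotientGroup.eq_one_iff y).mpr h)
  have hyr : (y : H) ^ r = 1 := by simpa using congrArg Subtype.val hy.2
  have hy0 : ∀ g ∈ R, g * y * g⁻¹ * (y : H)⁻¹ ∈ Subgroup.zpowers z := by
    intro g hg
    have h1 : QuotientGroup.mk' Zp ⁅(⟨g, hg⟩ : R), y⁆ = 1 := by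
      rw [map_commutatorElement, commutatorElement_eq_one_iff_mul_comm]
      exact Subgroup.mem_center_iff.mp hwc _
    have h2 : ⁅(⟨g, hg⟩ : R), y⁆ ∈ Zp := (QuotientGroup.eq_one_iff _).mp h1
    simpa [Zp, Subgroup.mem_subgroupOf, commutatorElement_def] using h2
  -- the elements central modulo `z`
  let U₀ : Subgroup H :=
    { carrier := {a | a ∈ R ∧ ∀ g ∈ R, g * a * g⁻¹ * a⁻¹ ∈ Subgroup.zpowers z}
      one_mem' := ⟨R.one_mem, fun g _ => by simp⟩
      mul_mem' := fun {a b} ha hb => ⟨R.mul_mem ha.1 hb.1, fun g hg => by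
        have e : g * (a * b) * g⁻¹ * (a * b)⁻¹
            = (g * a * g⁻¹ * a⁻¹) * (a * (g * b * g⁻¹ * b⁻¹) * a⁻¹) := by group
        rw [e, ← hzpc _ (hb.2 g hg) a ha.1, mul_inv_cancel_right]
        exact Subgroup.mul_mem _ (ha.2 g hg) (hb.2 g hg)⟩
      inv_mem' := fun {a} ha => ⟨R.inv_mem ha.1, fun g hg => by
        have e : g * a⁻¹ * g⁻¹ * a⁻¹⁻¹ = a⁻¹ * (g * a * g⁻¹ * a⁻¹)⁻¹ * a := by group
        rw [e, ← hzpc _ (Subgroup.inv_mem _ (ha.2 g hg)) a⁻¹ (R.inv_mem ha.1),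
          inv_mul_cancel_right]
        exact Subgroup.inv_mem _ (ha.2 g hg)⟩ }
  have hU₀M : ∀ m ∈ M, ∀ a ∈ U₀, m * a * m⁻¹ ∈ U₀ := by
    intro m hm a ha
    refine ⟨hMR m hm a ha.1, fun g hg => ?_⟩
    have h1 := hMR m⁻¹ (M.inv_mem hm) g hg
    rw [inv_inv] at h1
    have h2 := hzpM m hm _ (ha.2 _ h1)
    have e : m * (m⁻¹ * g * m * a * (m⁻¹ * g * m)⁻¹ * a⁻¹) * m⁻¹
        = g * (m * a * m⁻¹) * g⁻¹ * (m * a * m⁻¹)⁻¹ := by group
    rwa [e] at h2
  have hzU₀ : z ∈ U₀ := ⟨hzR, fun g hg => by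
    rw [← hzc g hg, mul_inv_cancel_right, mul_inv_cancel]; exact Subgroup.one_mem _⟩
  have hswap : ∀ a ∈ U₀, ∀ b ∈ U₀, ∃ c ∈ Subgroup.zpowers z, b * a = a * b * c := by
    intro a ha b hb
    refine ⟨b * a * b⁻¹ * a⁻¹, ha.2 b hb.1, ?_⟩
    rw [← hzpc _ (ha.2 b hb.1) (a * b) (R.mul_mem ha.1 hb.1)]
    group
  -- the subgroup `U`
  obtain ⟨U, hU₀, hUM, hzU, hyU, hUexp⟩ : ∃ U : Subgroup H, U ≤ U₀ ∧
      (∀ m ∈ M, ∀ a ∈ U, m * a * m⁻¹ ∈ U) ∧ z ∈ U ∧ (∀ a ∈ U₀, a ^ r = 1 → a ∈ U) ∧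
      ((r ≠ 2 ∧ ∀ a ∈ U, a ^ r = 1) ∨
        (r = 2 ∧ ∀ a ∈ U, a * a = 1 ∨ a * a = z)) := by
    by_cases hr2 : r = 2
    · subst hr2
      refine ⟨{ carrier := {a | a ∈ U₀ ∧ a * a ∈ Subgroup.zpowers z}
                one_mem' := ⟨U₀.one_mem, by simp⟩
                mul_mem' := fun {a b} ha hb => ⟨U₀.mul_mem ha.1 hb.1, ?_⟩
                inv_mem' := fun {a} ha => ⟨U₀.inv_mem ha.1, ?_⟩ }, fun a ha => ha.1, ?_, ?_, ?_,
        Or.inr ⟨rfl, ?_⟩⟩
      · obtain ⟨c, hc, hcab⟩ := hswap a ha.1 b hb.1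
        have e : a * b * (a * b) = (a * a) * (b * c) * b := by
          calc a * b * (a * b) = a * (b * a) * b := by group
            _ = _ := by rw [hcab]; group
        rw [e, ← hzpc c hc b hb.1.1, ← mul_assoc (a * a) c b, mul_assoc (a * a * c) b b]
        exact Subgroup.mul_mem _ (Subgroup.mul_mem _ ha.2 hc) hb.2
      · rw [← mul_inv_rev]; exact Subgroup.inv_mem _ ha.2
      · intro m hm a ha
        refine ⟨hU₀M m hm a ha.1, ?_⟩
        have h := hzpM m hm _ ha.2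
        rwa [show m * (a * a) * m⁻¹ = m * a * m⁻¹ * (m * a * m⁻¹) by group] at h
      · exact ⟨hzU₀, Subgroup.mul_mem _ (Subgroup.mem_zpowers z) (Subgroup.mem_zpowers z)⟩
      · intro a ha ha2
        exact ⟨ha, by rw [← pow_two, ha2]; exact Subgroup.one_mem _⟩
      · intro a ha
        obtain ⟨i, hi⟩ := hpowers _ ha.2
        rw [← Nat.div_add_mod i 2, pow_add, pow_mul, hzr, one_pow, one_mul] at hi
        rcases Nat.mod_two_eq_zero_or_one i with h | h <;> rw [h] at hi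
        · exact Or.inl (by simpa using hi)
        · exact Or.inr (by simpa using hi)
    · refine ⟨{ carrier := {a | a ∈ U₀ ∧ a ^ r = 1}
                one_mem' := ⟨U₀.one_mem, one_pow r⟩
                mul_mem' := fun {a b} ha hb => ⟨U₀.mul_mem ha.1 hb.1, ?_⟩
                inv_mem' := fun {a} ha =>
                  ⟨U₀.inv_mem ha.1, by rw [inv_pow, ha.2, inv_one]⟩ },
        fun a ha => ha.1, ?_, ⟨hzU₀, hzr⟩, fun a ha har => ⟨ha, har⟩,
        Or.inl ⟨hr2, fun a ha => ha.2⟩⟩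
      · obtain ⟨c, hc, hcab⟩ := hswap a ha.1 b hb.1
        rw [CfsgLib.Small.mul_pow_class_two hcab (hzpc c hc a ha.1.1) (hzpc c hc b hb.1.1), ha.2, hb.2,
          one_mul, one_mul]
        obtain ⟨i, rfl⟩ := hpowers c hc
        obtain ⟨k, hk⟩ := hr.dvd_choose_self (k := 2) (by norm_num)
          (by have := hr.two_le; omega)
        rw [← pow_mul, hk, ← mul_assoc, mul_comm i r, mul_assoc, pow_mul, hzr, one_pow]
      · intro m hm a ha
        exact ⟨hU₀M m hm a ha.1, by rw [conj_pow, ha.2]; group⟩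
  have hUR : U ≤ R := fun a ha => (hU₀ ha).1
  have hcomm : ∀ a ∈ U, ∀ b ∈ U, ∃ i : ℕ, a * b * a⁻¹ = b * z ^ i := by
    intro a ha b hb
    obtain ⟨i, hi⟩ := hpowers _ ((hU₀ hb).2 a (hUR ha))
    refine ⟨i, ?_⟩
    rw [← ((show Commute z b from hzc b (hUR hb)).pow_left i).eq, ← hi]
    group
  have hcen : ∀ w ∈ U, (∀ a ∈ U, w * a = a * w) → w ^ r = 1 → ∃ i : ℕ, w = z ^ i := by
    let AU : Subgroup H :=
      { carrier := {w | w ∈ U ∧ (∀ a ∈ U, w * a = a * w) ∧ w ^ r = 1}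
        one_mem' := ⟨U.one_mem, fun b _ => by group, one_pow r⟩
        mul_mem' := fun {a b} ha hb => ⟨U.mul_mem ha.1 hb.1,
          fun c hc => (Commute.mul_left (ha.2.1 c hc) (hb.2.1 c hc)),
          by rw [(show Commute a b from ha.2.1 b hb.1).mul_pow, ha.2.2, hb.2.2, one_mul]⟩
        inv_mem' := fun {a} ha => ⟨U.inv_mem ha.1,
          fun c hc => (show Commute a c from ha.2.1 c hc).inv_left,
          by rw [inv_pow, ha.2.2, inv_one]⟩ }
    intro w hw hwc hwr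
    refine hpowers w (helem AU (fun a ha => hUR ha.1) ?_ (fun a ha => ha.2.2)
      (fun a ha b hb => ha.2.1 b hb.1) ⟨hzU, fun a ha => hzc a (hUR ha), hzr⟩ w ⟨hw, hwc, hwr⟩)
    intro m hm a ha
    refine ⟨hUM m hm a ha.1, fun b hb => ?_, by rw [conj_pow, ha.2.2]; group⟩
    have hb' := hUM m⁻¹ (M.inv_mem hm) b hb
    rw [inv_inv] at hb'
    calc m * a * m⁻¹ * b = m * (a * (m⁻¹ * b * m)) * m⁻¹ := by group
      _ = b * (m * a * m⁻¹) := by rw [ha.2.1 _ hb']; group
  have hyU' : (y : H) ∈ U := hyU _ ⟨y.2, hy0⟩ hyr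
  -- a fixed vector of an element outside `⟨z⟩`
  obtain ⟨x, hxU, hxr, hxz, v, hv, hxv⟩ : ∃ x ∈ U, x ^ r = 1 ∧ x ∉ Subgroup.zpowers z ∧
      ∃ v : V, v ≠ 0 ∧ x • v = v := by
    rcases exists_fixed (y : H) z r hr hyr hzr (hzc y y.2).symm hcop v₀ hv₀ with
      ⟨w, hw, hw'⟩ | ⟨i, w, hw, hw'⟩
    · exact absurd (hfree w hw') hw
    · refine ⟨(y : H) * z ^ i, U.mul_mem hyU' (U.pow_mem hzU i), ?_, fun h => hyZ ?_, w, hw, hw'⟩
      · rw [((show Commute z (y : H) from hzc y y.2).symm.pow_right i).mul_pow, hyr, one_mul,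
          ← pow_mul, mul_comm, pow_mul, hzr, one_pow]
      · simpa using Subgroup.mul_mem _ h
          (Subgroup.inv_mem _ (Subgroup.pow_mem _ (Subgroup.mem_zpowers z) i))
  obtain ⟨g, hg, i, hgi, hi⟩ : ∃ g ∈ U, ∃ i : ℕ, g * x * g⁻¹ = x * z ^ i ∧ z ^ i ≠ 1 := by
    by_contra hc
    push_neg at hc
    obtain ⟨i, hi⟩ := hcen x hxU (fun a ha => by
      obtain ⟨i, hi⟩ := hcomm a ha x hxU
      rw [hc a ha i hi, mul_one] at hi
      exact (mul_inv_eq_iff_eq_mul.mp hi).symm) hxr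
    exact hxz (hi ▸ Subgroup.pow_mem _ (Subgroup.mem_zpowers z) i)
  obtain ⟨k, hk⟩ : ∃ k : ℕ, z ^ (i * k) = z := by
    have hndvd : ¬ r ∣ i := fun ⟨c, hc⟩ => hi (by rw [hc, pow_mul, hzr, one_pow])
    obtain ⟨j, hj⟩ := Nat.exists_mul_mod_eq_one_of_coprime
      (Nat.Coprime.symm (hr.coprime_iff_not_dvd.mpr hndvd)) hr.one_lt
    exact ⟨j, by rw [← Nat.div_add_mod (i * j) r, hj.2, pow_add, pow_mul, hzr, one_pow, one_mul,
      pow_one]⟩
  have hgk : ∀ n : ℕ, g ^ n * x * (g ^ n)⁻¹ = x * z ^ (i * n) := by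
    intro n
    induction n with
    | zero => simp
    | succ n ih =>
      calc g ^ (n + 1) * x * (g ^ (n + 1))⁻¹ = g * (g ^ n * x * (g ^ n)⁻¹) * g⁻¹ := by group
        _ = g * x * (z ^ (i * n) * g⁻¹) := by rw [ih]; group
        _ = g * x * g⁻¹ * z ^ (i * n) := by
          rw [((show Commute z g⁻¹ from hzc _ (hUR (U.inv_mem hg))).pow_left _).eq]; group
        _ = _ := by rw [hgi, mul_assoc, ← pow_add, Nat.mul_succ, add_comm]
  have t : TwoStep K r M U z x (g ^ k) v :=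
    ⟨hM, hUR.trans hRM, hUM, hzU, hz, fun a ha => hzc a (hUR ha), hfree, hcomm, hcen, hxU,
      U.pow_mem hg k, by rw [hgk k, hk], hxr, hv, hxv⟩
  rcases hUexp with ⟨hr2, hexp⟩ | ⟨rfl, hsq⟩
  · exact t.false_odd s hcop (by have := hr.two_le; omega) hexp p hbig
  by_cases hsingle : ∀ b ∈ U, b * b = 1 → x * b = b * x → b = 1 ∨ b = z ∨ b = x ∨ b = x * z
  · exact t.false_single s hcop hsq hsingle
  push_neg at hsingle
  obtain ⟨b, hbU, hbb, hxb, hb1, hb2, hb3, hb4⟩ := hsingle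
  obtain ⟨hz1', hzz, hxx⟩ := t.two_basic
  obtain ⟨w₁, hw₁, w₂, hw₂, h1x, h1y, h2x, h2y⟩ :=
    t.pair_shift b hbU ⟨hb1, hb2, hb3, hb4⟩ hbb hxb
  -- a common fixed vector of `x` and `b` or `b * z`
  obtain ⟨b', hb'U, hb'ne, hb'b, hxb', v', hv', hxv', hbv'⟩ : ∃ b' ∈ U,
      (b' ≠ 1 ∧ b' ≠ z ∧ b' ≠ x ∧ b' ≠ x * z) ∧ b' * b' = 1 ∧ x * b' = b' * x ∧
      ∃ v' : V, v' ≠ 0 ∧ x • v' = v' ∧ b' • v' = v' := by
    have hbv : x • b • v = b • v := by rw [← mul_smul, hxb, mul_smul, hxv]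
    by_cases hsum : v + b • v = 0
    · have hbzv : (b * z) • (v - z • v) = v - z • v := by
        have h1 : b • v = -v := eq_neg_of_add_eq_zero_right hsum
        rw [← hzc b (hUR hbU), mul_smul, smul_sub, ← mul_smul b z, ← hzc b (hUR hbU), mul_smul z b,
          h1, smul_neg, smul_sub, smul_neg, smul_neg, ← mul_smul z z, hzz, one_smul]
        abel
      refine ⟨b * z, U.mul_mem hbU hzU, ⟨fun h => hb2 ?_, fun h => hb1 ?_, fun h => hb4 ?_,
        fun h => hb3 ?_⟩, ?_, ?_, v - z • v, fun h => hv (hfree v (sub_eq_zero.mp h).symm), ?_,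
        hbzv⟩
      · rw [← mul_one b, ← hzz, ← mul_assoc, h, one_mul]
      · exact mul_eq_right.mp h
      · rw [← h, mul_assoc, hzz, mul_one]
      · exact mul_right_cancel h
      · rw [show b * z * (b * z) = b * (z * b) * z by group, hzc b (hUR hbU),
          show b * (b * z) * z = b * b * (z * z) by group, hbb, hzz, one_mul]
      · rw [← mul_assoc, hxb, mul_assoc, ← hzc x (hUR hxU), ← mul_assoc]
      · rw [smul_sub, hxv, ← mul_smul, ← hzc x (hUR hxU), mul_smul, hxv]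
    · refine ⟨b, hbU, ⟨hb1, hb2, hb3, hb4⟩, hbb, hxb, v + b • v, hsum, ?_, ?_⟩
      · rw [smul_add, hxv, hbv]
      · rw [smul_add, ← mul_smul, hbb, one_smul, add_comm]
  exact t.false_pair s hcop hsq p hbig b' hb'U hb'ne hb'b hxb' v' hv' hxv' hbv'

end Cfsg.Agent.AffineDerange
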